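import Groth.Agent.W7Hull.InvDual
import Groth.Agent.TMul.Assoc
import Groth.Agent.TMul.Pullback
import Groth.Prelude.Def_PicGrp

/-!
The Picard group law exists and pullback respects it.
-/

set_option autoImplicit false
set_option backward.isDefEq.respectTransparency false
set_option backward.isDefEq.respectTransparency.types false
set_option linter.style.haveILetI false

universe u

open CategoryTheory CategoryTheory.Limits AlgebraicGeometry TopologicalSpace Opposite

noncomputable section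

namespace Groth.Agent.W7Cube

variable {X Y Z : Scheme.{u}}

/-- The product of two invertible classes. -/
def pmul (a b : PicLoc.PicSet Y) : PicLoc.PicSet Y := ⟨PicGrp.mulCl a.1 b.1, by
  obtain ⟨L, hL, rfl⟩ := PicGrp.exists_eq_cls a
  obtain ⟨M, hM, rfl⟩ := PicGrp.exists_eq_cls b
  exact ⟨_, rfl, TMul.isInvertible_tensorMod hL hM⟩⟩

lemma pmul_cls {L M : Y.Modules} (hL : PicF.IsInvertible L) (hM : PicF.IsInvertible M) :
    pmul (PicGrp.cls L hL) (PicGrp.cls M hM) = PicGrp.cls _ (TMul.isInvertible_tensorMod hL hM) := rfl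

lemma exists_pinv (a : PicLoc.PicSet Y) : ∃ b, pmul b a = PicLoc.unitPicSet Y := by
  obtain ⟨L, hL, rfl⟩ := PicGrp.exists_eq_cls a
  obtain ⟨L', hL', ⟨e⟩⟩ := W7Hull.exists_tensor_inverse hL
  exact ⟨PicGrp.cls L' hL', Subtype.ext (Quot.sound ⟨TMul.commIso _ _ ≪≫ e⟩)⟩

/-- The group law of the Picard group. -/
@[implicit_reducible]
def law (Y : Scheme.{u}) : PicGrp.Law Y where
  mul := pmul
  one := PicLoc.unitPicSet Y
  inv a := (exists_pinv a).choose
  mul_assoc a b c := by
    obtain ⟨L, hL, rfl⟩ := PicGrp.exists_eq_cls a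
    obtain ⟨M, hM, rfl⟩ := PicGrp.exists_eq_cls b
    obtain ⟨N, hN, rfl⟩ := PicGrp.exists_eq_cls c
    exact Subtype.ext (Quot.sound ⟨TMul.assocIso L M N⟩)
  one_mul a := by
    obtain ⟨L, hL, rfl⟩ := PicGrp.exists_eq_cls a
    exact (PicGrp.cls_eq_cls_iff (TMul.isInvertible_tensorMod (PicLoc.isInvertible_structureModule Y) hL) hL).2
      ⟨TMul.leftUnitIso L⟩
  mul_one a := by
    obtain ⟨L, hL, rfl⟩ := PicGrp.exists_eq_cls a
    exact (PicGrp.cls_eq_cls_iff (TMul.isInvertible_tensorMod hL (PicLoc.isInvertible_structureModule Y)) hL).2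
      ⟨SecTwist.unitorR L⟩
  inv_mul_cancel a := (exists_pinv a).choose_spec
  mul_comm a b := by
    obtain ⟨L, hL, rfl⟩ := PicGrp.exists_eq_cls a
    obtain ⟨M, hM, rfl⟩ := PicGrp.exists_eq_cls b
    exact Subtype.ext (Quot.sound ⟨TMul.commIso L M⟩)
  mul_val _ _ := rfl
  one_eq := rfl

/-- Pullback respects the tensor product. -/
theorem pullMul (g : X ⟶ Y) : PicGrp.PullMul g := by
  rintro c d ⟨L, rfl, hL⟩ ⟨M, rfl, hM⟩
  obtain ⟨e⟩ := TMul.nonempty_pullTensorIso g L M
  exact Quot.sound ⟨e.symm⟩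

attribute [local instance] law

/-- Pullback of classes. -/
def pull (g : X ⟶ Y) : PicLoc.PicSet Y →* PicLoc.PicSet X := PicGrp.pullHom g (pullMul g)

lemma pull_cls (g : X ⟶ Y) (L : Y.Modules) (hL : PicF.IsInvertible L) :
    pull g (PicGrp.cls L hL) = PicGrp.cls ((Scheme.Modules.pullback g).obj L) (PicLoc.isInvertible_pullback g hL) :=
  PicGrp.pullHom_cls g _ L hL

lemma pull_pull (g : X ⟶ Y) (g' : Y ⟶ Z) (c : PicLoc.PicSet Z) : pull g (pull g' c) = pull (g ≫ g') c :=
  (PicGrp.pullHom_comp_apply g g' _ _ _ c).symm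

end Groth.Agent.W7Cube
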