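import Groth.Agent.W7Cube.OverField
import Groth.Agent.W7Cube.Pic
import Groth.Agent.W7See.Point
import Mathlib.AlgebraicGeometry.Group.Abelian
import Mathlib.CategoryTheory.Monoidal.Cartesian.Over
import Mathlib.CategoryTheory.Monoidal.Cartesian.Grp

/-!
The cube relation for a proper group variety.
-/

set_option autoImplicit false
set_option backward.isDefEq.respectTransparency false
set_option backward.isDefEq.respectTransparency.types false
set_option linter.style.haveILetI false
set_option maxHeartbeats 1000000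

universe u

open CategoryTheory MonoidalCategory CartesianMonoidalCategory MonObj GrpObj AlgebraicGeometry

noncomputable section

namespace Groth.Agent.W7Cube

attribute [local instance] law

variable {K : Type u} [Field K] {V V' A : Over (Spec (CommRingCat.of K))} [GrpObj A]

/-- The class of the pullback along a point. -/
def pc (c : PicLoc.PicSet A.left) (f : V ⟶ A) : PicLoc.PicSet V.left := pull f.left c

/-- The cube defect. -/
def defect (c : PicLoc.PicSet A.left) (f g h : V ⟶ A) : PicLoc.PicSet V.left :=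
  pc c (f * g * h) * pc c f * pc c g * pc c h * (pc c (f * g) * pc c (f * h) * pc c (g * h))⁻¹

lemma pull_pc (c : PicLoc.PicSet A.left) (s : V' ⟶ V) (f : V ⟶ A) : pull s.left (pc c f) = pc c (s ≫ f) :=
  pull_pull s.left f.left c

lemma pc_const (c : PicLoc.PicSet A.left) (a : 𝟙_ (Over (Spec (CommRingCat.of K))) ⟶ A) :
    pc c (toUnit V ≫ a) = 1 := by
  have : Subsingleton (Spec (CommRingCat.of K)) := inferInstanceAs (Subsingleton (PrimeSpectrum K))
  have : Nonempty (Spec (CommRingCat.of K)) := inferInstanceAs (Nonempty (PrimeSpectrum K))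
  have h : pull a.left c = 1 := by
    obtain ⟨L, hL, rfl⟩ := PicGrp.exists_eq_cls c
    rw [pull_cls, PicGrp.cls_eq_one_iff]
    exact W7See.nonempty_iso_unit_of_subsingleton (P := Spec (CommRingCat.of K)) (PicLoc.isInvertible_pullback _ hL)
  rw [pc, Over.comp_left, ← pull_pull, h, map_one]

lemma pc_one (c : PicLoc.PicSet A.left) : pc c (1 : V ⟶ A) = 1 := pc_const c η

lemma pc_id (c : PicLoc.PicSet A.left) : pc c (𝟙 A) = c := PicGrp.pullHom_id_apply _ c

lemma pull_defect (c : PicLoc.PicSet A.left) (s : V' ⟶ V) (f g h : V ⟶ A) :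
    pull s.left (defect c f g h) = defect c (s ≫ f) (s ≫ g) (s ≫ h) := by
  simp only [defect, map_mul, map_inv, pull_pc, MonObj.comp_mul]

lemma defect_one₁ (c : PicLoc.PicSet A.left) (g h : V ⟶ A) : defect c 1 g h = 1 := by
  simp only [defect, _root_.one_mul, pc_one, _root_.mul_one]
  rw [mul_inv_eq_one]
  ac_rfl

lemma defect_one₂ (c : PicLoc.PicSet A.left) (f h : V ⟶ A) : defect c f 1 h = 1 := by
  simp only [defect, _root_.one_mul, _root_.mul_one, pc_one]
  rw [mul_inv_eq_one]
  ac_rfl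

lemma defect_one₃ (c : PicLoc.PicSet A.left) (f g : V ⟶ A) : defect c f g 1 = 1 := by
  simp only [defect, _root_.mul_one, pc_one]
  rw [mul_inv_eq_one]

variable [IsProper A.hom] [GeometricallyIntegral A.hom]

set_option maxHeartbeats 4000000 in
/-- The universal cube defect vanishes. -/
theorem defect_univ (c : PicLoc.PicSet A.left) :
    defect c (fst A (A ⊗ A)) (snd A (A ⊗ A) ≫ fst A A) (snd A (A ⊗ A) ≫ snd A A) = 1 := by
  haveI := W7See.geometricallyConnected_of_geometricallyIntegral A.hom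
  obtain ⟨M, hM, e⟩ := PicGrp.exists_eq_cls
    (defect c (fst A (A ⊗ A)) (snd A (A ⊗ A) ≫ fst A A) (snd A (A ⊗ A) ≫ snd A A))
  rw [e]
  have key : ∀ {W : Over (Spec (CommRingCat.of K))} (s : W ⟶ A ⊗ A ⊗ A),
      defect c (s ≫ fst _ _) (s ≫ snd _ _ ≫ fst _ _) (s ≫ snd _ _ ≫ snd _ _) = 1 →
        Nonempty ((Scheme.Modules.pullback s.left).obj M ≅ Coh.structureModule W.left) := by
    intro W s h
    rw [← pull_defect, e, pull_cls, PicGrp.cls_eq_one_iff] at h
    exact h
  obtain ⟨ja⟩ := key (lift (toUnit (A ⊗ A) ≫ η[A]) (𝟙 (A ⊗ A)))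
    (by simp only [lift_fst, lift_snd_assoc, lift_snd]; rw [← Hom.one_def]; exact defect_one₁ c _ _)
  obtain ⟨jb⟩ := key (lift (fst A A) (lift (toUnit (A ⊗ A) ≫ η[A]) (snd A A)))
    (by simp only [lift_fst, lift_snd_assoc, lift_snd]; rw [← Hom.one_def]; exact defect_one₂ c _ _)
  obtain ⟨jc⟩ := key (lift (fst A A) (lift (snd A A) (toUnit (A ⊗ A) ≫ η[A])))
    (by simp only [lift_fst, lift_snd_assoc, lift_snd]; rw [← Hom.one_def]; exact defect_one₃ c _ _)
  rw [PicGrp.cls_eq_one_iff]
  exact cube_field A.hom A.hom A.hom (η[A]).left (Over.w η[A]) (η[A]).left (Over.w η[A]) (η[A]).left (Over.w η[A])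
    M hM _ (by simp) (by simp) _ (by simp) (by simp) (by simp) _ (by simp) (by simp) (by simp) ja jb jc

/-- **The cube relation.** -/
theorem cube_rel (c : PicLoc.PicSet A.left) (f g h : V ⟶ A) :
    pc c (f * g * h) * pc c f * pc c g * pc c h = pc c (f * g) * pc c (f * h) * pc c (g * h) := by
  have e := congrArg (pull (lift f (lift g h)).left) (defect_univ c)
  rw [pull_defect, map_one, lift_fst, lift_snd_assoc, lift_snd_assoc, lift_fst, lift_snd, defect,
    mul_inv_eq_one] at e
  exact e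

lemma tri_succ (m : ℕ) : (m + 1) * (m + 1 + 1) / 2 = m * (m + 1) / 2 + (m + 1) := by
  rw [show (m + 1) * (m + 1 + 1) = m * (m + 1) + (m + 1) * 2 by ring, Nat.add_mul_div_right _ _ two_pos]

/-- Pullback along multiplication by `n`. -/
theorem pc_pow (c : PicLoc.PicSet A.left) (n : ℕ) :
    pc c (𝟙 A ^ n) = c ^ (n * (n + 1) / 2) * pc c (𝟙 A)⁻¹ ^ (n * (n - 1) / 2) := by
  induction n using Nat.twoStepInduction with
  | zero => simp [pc_one]
  | one => simp [pc_id]
  | more n h1 h2 =>
    have h := cube_rel c (𝟙 A ^ (n + 1)) (𝟙 A) (𝟙 A)⁻¹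
    rw [mul_assoc (𝟙 A ^ (n + 1)), mul_inv_cancel, _root_.mul_one, pc_one, _root_.mul_one, ← pow_succ,
      show 𝟙 A ^ (n + 1) * (𝟙 A)⁻¹ = 𝟙 A ^ n by rw [pow_succ, mul_inv_cancel_right], h1, h2, pc_id] at h
    have e1 : (n + 1 + 1) * (n + 1 + 1 + 1) / 2 + n * (n + 1) / 2 = (n + 1) * (n + 1 + 1) / 2 * 2 + 1 := by
      rw [tri_succ, tri_succ]; omega
    have e2 : (n + 1) * (n + 1 + 1) / 2 = n * (n + 1) / 2 + (n + 1) := tri_succ n
    have e3 : (n + 2) * (n + 2 - 1) / 2 = (n + 1) * (n + 1 + 1) / 2 := by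
      rw [Nat.mul_comm]; rfl
    have e4 : (n + 1) * (n + 1 - 1) / 2 = n * (n + 1) / 2 := by
      rw [Nat.mul_comm]; rfl
    have e5 : n * (n - 1) / 2 + n = n * (n + 1) / 2 := by
      cases n with
      | zero => rfl
      | succ m => rw [Nat.succ_sub_one, Nat.mul_comm]; exact (tri_succ m).symm
    refine mul_right_cancel (b := c ^ (n * (n + 1) / 2) * pc c (𝟙 A)⁻¹ ^ (n * (n - 1) / 2)) (h.symm.trans ?_)
    rw [e4, mul_mul_mul_comm (c ^ ((n + 2) * (n + 2 + 1) / 2)), ← pow_add, ← pow_add, e1, e3, e2]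
    generalize n * (n + 1) / 2 = t at e5 ⊢
    generalize n * (n - 1) / 2 = r at e5 ⊢
    subst e5
    generalize pc c (𝟙 A)⁻¹ = d
    rw [show r + n + (n + 1) + r = (r + n) * 2 + 1 by omega]
    simp only [pow_add, pow_mul, pow_two, pow_one]
    ac_rfl

end Groth.Agent.W7Cube
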