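import Groth.Agent.W7Cube.Cube

/-!
The theorem of the cube for three factors over a field.
-/

set_option autoImplicit false
set_option backward.isDefEq.respectTransparency false
set_option backward.isDefEq.respectTransparency.types false
set_option linter.style.haveILetI false
set_option maxHeartbeats 1000000

universe u

open CategoryTheory CategoryTheory.Limits AlgebraicGeometry TopologicalSpace Opposite
open TMul (IsGen)

noncomputable section

namespace Groth.Agent.W7Cube

/-- The residue field map at a rational point of the base is trivial. -/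
theorem fromSpecResidueField_section {S Z : Scheme.{u}} (s : S ⟶ Z) (g : Z ⟶ S) (h : s ≫ g = 𝟙 S) (pt : S) :
    Z.fromSpecResidueField (s pt) ≫ g ≫ s = Z.fromSpecResidueField (s pt) := by
  haveI : IsOpenImmersion (s ≫ g) := by rw [h]; infer_instance
  haveI : IsIso ((s ≫ g).residueFieldMap pt) := inferInstance
  have h1 : Function.Surjective (s.residueFieldMap pt).hom := by
    intro b
    obtain ⟨a, ha⟩ := (ConcreteCategory.bijective_of_isIso ((s ≫ g).residueFieldMap pt)).2 b
    refine ⟨(g.residueFieldMap (s pt)).hom a, ?_⟩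
    rw [← ha, Scheme.residueFieldMap_comp]
    rfl
  haveI : IsIso (s.residueFieldMap pt) :=
    (ConcreteCategory.isIso_iff_bijective _).2 ⟨(s.residueFieldMap pt).hom.injective, h1⟩
  rw [← cancel_epi (Spec.map (s.residueFieldMap pt)), Scheme.Hom.SpecMap_residueFieldMap_fromSpecResidueField_assoc,
    Scheme.Hom.SpecMap_residueFieldMap_fromSpecResidueField, reassoc_of% h]

variable {k : Type u} [Field k] {X Y Z : Scheme.{u}} (iX : X ⟶ Spec (CommRingCat.of k))
  (iY : Y ⟶ Spec (CommRingCat.of k)) (iZ : Z ⟶ Spec (CommRingCat.of k))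

set_option maxHeartbeats 4000000 in
/-- **The theorem of the cube over a field.** -/
theorem cube_field [IsProper iX] [GeometricallyIntegral iX] [IsProper iY] [GeometricallyReduced iY]
    [GeometricallyConnected iY] [LocallyOfFiniteType iZ] [GeometricallyIntegral iZ]
    (x₀ : Spec (CommRingCat.of k) ⟶ X) (hx₀ : x₀ ≫ iX = 𝟙 _)
    (y₀ : Spec (CommRingCat.of k) ⟶ Y) (hy₀ : y₀ ≫ iY = 𝟙 _)
    (z₀ : Spec (CommRingCat.of k) ⟶ Z) (hz₀ : z₀ ≫ iZ = 𝟙 _)
    (L : (pullback iX (pullback.fst iY iZ ≫ iY)).Modules) (hL : PicF.IsInvertible L)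
    (a : pullback iY iZ ⟶ pullback iX (pullback.fst iY iZ ≫ iY))
    (a₁ : a ≫ pullback.fst _ _ = (pullback.fst iY iZ ≫ iY) ≫ x₀) (a₂ : a ≫ pullback.snd _ _ = 𝟙 _)
    (b : pullback iX iZ ⟶ pullback iX (pullback.fst iY iZ ≫ iY))
    (b₁ : b ≫ pullback.fst _ _ = pullback.fst iX iZ)
    (b₂ : b ≫ pullback.snd _ _ ≫ pullback.fst iY iZ = (pullback.fst iX iZ ≫ iX) ≫ y₀)
    (b₃ : b ≫ pullback.snd _ _ ≫ pullback.snd iY iZ = pullback.snd iX iZ)
    (c : pullback iX iY ⟶ pullback iX (pullback.fst iY iZ ≫ iY))
    (c₁ : c ≫ pullback.fst _ _ = pullback.fst iX iY)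
    (c₂ : c ≫ pullback.snd _ _ ≫ pullback.fst iY iZ = pullback.snd iX iY)
    (c₃ : c ≫ pullback.snd _ _ ≫ pullback.snd iY iZ = (pullback.fst iX iY ≫ iX) ≫ z₀)
    (ja : (Scheme.Modules.pullback a).obj L ≅ Coh.structureModule _)
    (jb : (Scheme.Modules.pullback b).obj L ≅ Coh.structureModule _)
    (jc : (Scheme.Modules.pullback c).obj L ≅ Coh.structureModule _) :
    Nonempty (L ≅ Coh.structureModule _) := by
  haveI : LocallyOfFinitePresentation iY := InfLift.lfp_of_lft iY
  haveI : LocallyOfFinitePresentation iX := InfLift.lfp_of_lft iX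
  haveI : IsLocallyNoetherian Z := LocallyOfFiniteType.isLocallyNoetherian iZ
  haveI : IsIntegral Z := GeometricallyIntegral.isIntegral_of_subsingleton iZ
  let pX := pullback.snd iX iZ
  let pY := pullback.snd iY iZ
  let q := pullback.snd iX (pullback.fst iY iZ ≫ iY)
  have hP : pullback.fst iX (pullback.fst iY iZ ≫ iY) ≫ iX = q ≫ pY ≫ iZ :=
    pullback.condition.trans (congrArg (q ≫ ·) pullback.condition)
  let p : pullback iX (pullback.fst iY iZ ≫ iY) ⟶ pullback iX iZ :=
    pullback.lift (pullback.fst _ _) (q ≫ pY) (hP.trans (Category.assoc _ _ _).symm)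
  have sq : IsPullback p q pX pY := by
    refine (IsPullback.of_bot ?_ (pullback.lift_snd _ _ _).symm (IsPullback.of_hasPullback iX iZ).flip).flip
    rw [pullback.lift_fst, ← pullback.condition]
    exact (IsPullback.of_hasPullback iX (pullback.fst iY iZ ≫ iY)).flip
  haveI : IsLocallyNoetherian (pullback iY iZ) := LocallyOfFiniteType.isLocallyNoetherian pY
  haveI : IsReduced (pullback iY iZ) := inferInstance
  haveI := W7See.geometricallyConnected_of_geometricallyIntegral pX
  haveI := W7See.geometricallyConnected_of_geometricallyIntegral q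
  haveI : IsProper p := MorphismProperty.of_isPullback sq.flip (inferInstance : IsProper pY)
  haveI : Flat p := MorphismProperty.of_isPullback sq.flip (inferInstance : Flat pY)
  let f := p ≫ pX
  haveI : IsProper f := inferInstanceAs (IsProper (p ≫ pX))
  haveI : Flat f := inferInstanceAs (Flat (p ≫ pX))
  let x : Z ⟶ pullback iX iZ := pullback.lift (iZ ≫ x₀) (𝟙 Z) (by rw [Category.assoc, hx₀, Category.comp_id, Category.id_comp])
  let y : Z ⟶ pullback iY iZ := pullback.lift (iZ ≫ y₀) (𝟙 Z) (by rw [Category.assoc, hy₀, Category.comp_id, Category.id_comp])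
  have ha' : a ≫ p = pY ≫ x := by
    refine pullback.hom_ext ?_ ?_
    · rw [Category.assoc, Category.assoc, pullback.lift_fst, pullback.lift_fst, a₁, pullback.condition, Category.assoc]
    · rw [Category.assoc, Category.assoc, pullback.lift_snd, pullback.lift_snd, reassoc_of% a₂, Category.comp_id]
  have hb : b ≫ p = 𝟙 _ := by
    refine pullback.hom_ext ?_ ?_
    · rw [Category.assoc, pullback.lift_fst, b₁, Category.id_comp]
    · rw [Category.assoc, pullback.lift_snd, b₃, Category.id_comp]
  have hb' : b ≫ q = pX ≫ y := by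
    refine pullback.hom_ext ?_ ?_
    · rw [Category.assoc, Category.assoc, pullback.lift_fst, b₂, pullback.condition, Category.assoc]
    · rw [Category.assoc, Category.assoc, pullback.lift_snd, b₃, Category.comp_id]
  let pt : Spec (CommRingCat.of k) := default
  let z := z₀ pt
  let ι := f.fiberι z
  let w : f.fiber z ⟶ pullback iX iY := pullback.lift (ι ≫ pullback.fst _ _) (ι ≫ q ≫ pullback.fst iY iZ)
    ((Category.assoc _ _ _).trans ((congrArg (ι ≫ ·) pullback.condition).trans
      ((congrArg (ι ≫ ·) (Category.assoc _ _ _).symm).trans (Category.assoc _ _ _).symm)))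
  have hw : w ≫ c = ι := by
    refine pullback.hom_ext ?_ (pullback.hom_ext ?_ ?_)
    · rw [Category.assoc, c₁, pullback.lift_fst]
    · rw [Category.assoc, Category.assoc, c₂, pullback.lift_snd]
      exact (Category.assoc _ _ _).symm
    · have hf : ι ≫ q ≫ pY = f.fiberToSpecResidueField z ≫ Z.fromSpecResidueField z := by
        rw [← sq.w]; exact f.fiber_fac z
      calc ((w ≫ c) ≫ pullback.snd _ _) ≫ pullback.snd iY iZ
          = ι ≫ (pullback.fst _ _ ≫ iX) ≫ z₀ := by
            rw [Category.assoc, Category.assoc, c₃]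
            simp only [w, Category.assoc, pullback.lift_fst_assoc]
        _ = (ι ≫ q ≫ pY) ≫ iZ ≫ z₀ := by
            rw [hP]
            simp only [Category.assoc]
        _ = ι ≫ q ≫ pY := by
            rw [hf, Category.assoc, fromSpecResidueField_section z₀ iZ hz₀ pt]
        _ = (ι ≫ q) ≫ pY := (Category.assoc _ _ _).symm
  let i : CohIII.fiberMod f L z ≅ Coh.structureModule (f.fiber z) :=
    (Scheme.Modules.pullbackCongr hw.symm).app L ≪≫ ((Scheme.Modules.pullbackComp w c).app L).symm ≪≫
      (Scheme.Modules.pullback w).mapIso jc ≪≫ PicLoc.pullbackStructureIso w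
  obtain ⟨U, g, hzU, hg⟩ := exists_gen_near_cube pX pY sq f rfl x (pullback.lift_snd _ _ _) y
    (pullback.lift_snd _ _ _) a a₂ ha' b hb hb' L hL ja jb z
    (W7See.bijective_fiber pX z) (W7See.bijective_fiber pY z) i
  let F : Set (pullback iY iZ : Scheme.{u}) :=
    {t | Nonempty (CohIII.fiberMod q L t ≅ Coh.structureModule (q.fiber t))}
  have hF : IsClosed F := W7See.isClosed_trivial_locus q (fun _ => inferInstance) (W7See.bijective_fiber q) L hL
  have hsub : pY ⁻¹' (U : Set Z) ⊆ F := by
    intro t ht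
    have hle : (⊤ : (q.fiber t).Opens) ≤ q.fiberι t ⁻¹ᵁ (f ⁻¹ᵁ U) := fun v _ => by
      change (p ≫ pX) (q.fiberι t v) ∈ U
      rw [sq.w, Scheme.Hom.comp_apply, ← Scheme.Hom.comp_apply (q.fiberι t) q, Scheme.Hom.fiber_fac,
        Scheme.Hom.comp_apply, Scheme.fromSpecResidueField_apply]
      exact ht
    obtain ⟨e⟩ := InvGen.nonempty_iso (𝟙 (q.fiber t)) _ (le_top.trans hle) _ (C1Cap.isGen_eta (q.fiberι t) hg)
    exact ⟨(Scheme.Modules.restrictFunctorId.app _).symm ≪≫ e⟩
  have hd : Dense (pY ⁻¹' (U : Set Z)) := (U.2.dense ⟨z, hzU⟩).preimage pY.isOpenMap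
  obtain ⟨-, hc⟩ := W7See.seesaw q (W7See.bijective_fiber q) L hL
    fun t => hF.closure_subset_iff.2 hsub (hd t)
  exact W7See.nonempty_iso_unit_of_counit q L hc a a₂ ja

end Groth.Agent.W7Cube
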