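import Groth.Agent.W7Cube.Base
import Groth.Agent.W7Cube.OverField
import Groth.Agent.W7Cube.Pic
import Groth.Agent.GrpField.Irreducible
import Groth.Agent.GrpField.FibreHom
import Groth.Agent.SymAlg.CanonImm
import Mathlib.AlgebraicGeometry.Group.Abelian

/-!
The cube relation for an abelian scheme over any base.
-/

set_option autoImplicit false
set_option backward.isDefEq.respectTransparency false
set_option backward.isDefEq.respectTransparency.types false
set_option linter.style.haveILetI false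
set_option maxHeartbeats 1000000

universe u

open CategoryTheory MonoidalCategory CartesianMonoidalCategory MonObj GrpObj AlgebraicGeometry
open TMul (IsGen)

noncomputable section

namespace Groth.Agent.W7Cube

open Limits in
/-- A clopen piece of the base with trivial module gives a generator over it. -/
theorem exists_gen_of_iso_preimage {P Z : Scheme.{u}} (f : P ⟶ Z) (W : Z.Opens) (L : P.Modules)
    (i : (Scheme.Modules.pullback (f ⁻¹ᵁ W).ι).obj L ≅ Coh.structureModule _) :
    ∃ g : Γ(L, f ⁻¹ᵁ W), IsGen g := by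
  obtain ⟨v, hv⟩ := W7Hull.exists_gen_of_iso
    ((Scheme.Modules.restrictFunctorIsoPullback (f ⁻¹ᵁ W).ι).app L ≪≫ i)
  exact ⟨_, (SymAlg.isGen_of_isGen_restrict (f ⁻¹ᵁ W).ι v hv).res (le_of_eq (f ⁻¹ᵁ W).ι_image_top.symm)⟩

variable {S : Scheme.{u}} {X : Over S} [GrpObj X]

/-- A group scheme with connected reduced geometric fibres has geometrically integral fibres. -/
theorem geometricallyIntegral_grp [LocallyOfFiniteType X.hom] [GeometricallyConnected X.hom]
    [GeometricallyReduced X.hom] : GeometricallyIntegral X.hom := by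
  haveI : GeometricallyIrreducible X.hom := by
    rw [GeometricallyIrreducible.iff_geometricallyIrreducible_fiber]
    intro s
    letI := GrpField.fibGrp X s
    haveI : LocallyOfFiniteType (GrpField.fib X s).hom :=
      inferInstanceAs (LocallyOfFiniteType (Limits.pullback.snd X.hom (S.fromSpecResidueField s)))
    haveI : ConnectedSpace (GrpField.fib X s).left :=
      GeometricallyConnected.geometrically_connectedSpace _ _ _ (IsPullback.of_hasPullback X.hom _)
    exact GrpField.geometricallyIrreducible_of_connected (GrpField.fib X s)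
  exact GeometricallyIntegral.of_geometricallyReduced_of_geometricallyIrreducible _

attribute [local instance] law

/-- Pullback of a class along a point. -/
def pcr (c : PicLoc.PicSet X.left) {T : Over S} (f : T ⟶ X) : PicLoc.PicSet T.left := pull f.left c

/-- The cube defect, normalised at the neutral point. -/
def defectR (c : PicLoc.PicSet X.left) {T : Over S} (f g h : T ⟶ X) : PicLoc.PicSet T.left :=
  pcr c (f * g * h) * pcr c f * pcr c g * pcr c h * (pcr c (f * g) * pcr c (f * h) * pcr c (g * h) * pcr c 1)⁻¹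

lemma pull_pcr (c : PicLoc.PicSet X.left) {T T' : Over S} (s : T' ⟶ T) (f : T ⟶ X) :
    pull s.left (pcr c f) = pcr c (s ≫ f) := pull_pull s.left f.left c

lemma pull_defectR (c : PicLoc.PicSet X.left) {T T' : Over S} (s : T' ⟶ T) (f g h : T ⟶ X) :
    pull s.left (defectR c f g h) = defectR c (s ≫ f) (s ≫ g) (s ≫ h) := by
  simp only [defectR, map_mul, map_inv, pull_pcr, MonObj.comp_mul, MonObj.comp_one]

lemma defectR_one (c : PicLoc.PicSet X.left) {T : Over S} (f g : T ⟶ X) :
    defectR c 1 f g = 1 ∧ defectR c f 1 g = 1 ∧ defectR c f g 1 = 1 := by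
  refine ⟨?_, ?_, ?_⟩ <;> simp only [defectR, _root_.one_mul, _root_.mul_one] <;> rw [mul_inv_eq_one] <;> ac_rfl

variable [IsProper X.hom] [Flat X.hom] [LocallyOfFinitePresentation X.hom] [GeometricallyReduced X.hom]
  [GeometricallyConnected X.hom]

set_option maxHeartbeats 4000000 in
/-- The universal cube defect of an abelian scheme vanishes. -/
theorem defectR_univ (c : PicLoc.PicSet X.left) :
    defectR c (fst (X ⊗ X) X ≫ fst X X) (fst (X ⊗ X) X ≫ snd X X) (snd (X ⊗ X) X) = 1 := by
  haveI : GeometricallyIntegral X.hom := geometricallyIntegral_grp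
  obtain ⟨M, hM, e⟩ := PicGrp.exists_eq_cls
    (defectR c (fst (X ⊗ X) X ≫ fst X X) (fst (X ⊗ X) X ≫ snd X X) (snd (X ⊗ X) X))
  rw [e, PicGrp.cls_eq_one_iff]
  have key : ∀ (s : X ⊗ X ⟶ (X ⊗ X) ⊗ X),
      defectR c (s ≫ fst _ _ ≫ fst _ _) (s ≫ fst _ _ ≫ snd _ _) (s ≫ snd _ _) = 1 →
        Nonempty ((Scheme.Modules.pullback s.left).obj M ≅ Coh.structureModule (X ⊗ X).left) := by
    intro s h
    rw [← pull_defectR, e, pull_cls, PicGrp.cls_eq_one_iff] at h
    exact h
  let eta : S ⟶ X.left := (η[X]).left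
  have heta : eta ≫ X.hom = 𝟙 S := Over.w η[X]
  let s₁ : X ⊗ X ⟶ (X ⊗ X) ⊗ X := lift (lift (toUnit (X ⊗ X) ≫ η[X]) (fst X X)) (snd X X)
  let s₂ : X ⊗ X ⟶ (X ⊗ X) ⊗ X := lift (lift (fst X X) (toUnit (X ⊗ X) ≫ η[X])) (snd X X)
  let s₃ : X ⊗ X ⟶ (X ⊗ X) ⊗ X := lift (𝟙 (X ⊗ X)) (toUnit (X ⊗ X) ≫ η[X])
  obtain ⟨j₁⟩ := key s₁ (by
    simp only [s₁, lift_fst_assoc, lift_fst, lift_snd]; rw [← Hom.one_def]; exact (defectR_one c _ _).1)
  obtain ⟨j₂⟩ := key s₂ (by
    simp only [s₂, lift_fst_assoc, lift_fst, lift_snd]; rw [← Hom.one_def]; exact (defectR_one c _ _).2.1)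
  obtain ⟨j₃⟩ := key s₃ (by
    simp only [s₃, lift_fst_assoc, lift_snd, Category.id_comp]; rw [← Hom.one_def]; exact (defectR_one c _ _).2.2)
  let l₁ : X.left ⟶ Limits.pullback X.hom X.hom := Limits.pullback.lift (X.hom ≫ eta) (𝟙 _)
    (by rw [Category.assoc, heta, Category.comp_id, Category.id_comp])
  let l₂ : X.left ⟶ Limits.pullback X.hom X.hom := Limits.pullback.lift (𝟙 _) (X.hom ≫ eta)
    (by rw [Category.assoc, heta, Category.comp_id, Category.id_comp])
  have hc₁ : l₁ ≫ (Limits.pullback.fst X.hom X.hom ≫ X.hom) = X.hom := by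
    rw [Limits.pullback.lift_fst_assoc, Category.assoc, heta, Category.comp_id]
  have hc₂ : l₂ ≫ (Limits.pullback.fst X.hom X.hom ≫ X.hom) = X.hom := by rw [Limits.pullback.lift_fst_assoc, Category.id_comp]
  let e₁ : Limits.pullback (l₁ ≫ (Limits.pullback.fst X.hom X.hom ≫ X.hom)) X.hom ⟶ Limits.pullback X.hom X.hom :=
    Limits.pullback.lift (Limits.pullback.fst _ _) (Limits.pullback.snd _ _)
      ((congrArg (_ ≫ ·) hc₁.symm).trans Limits.pullback.condition)
  let e₂ : Limits.pullback (l₂ ≫ (Limits.pullback.fst X.hom X.hom ≫ X.hom)) X.hom ⟶ Limits.pullback X.hom X.hom :=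
    Limits.pullback.lift (Limits.pullback.fst _ _) (Limits.pullback.snd _ _)
      ((congrArg (_ ≫ ·) hc₂.symm).trans Limits.pullback.condition)
  have hk₁ : Limits.pullback.snd (l₁ ≫ (Limits.pullback.fst X.hom X.hom ≫ X.hom)) X.hom ≫ X.hom =
      Limits.pullback.fst (l₁ ≫ (Limits.pullback.fst X.hom X.hom ≫ X.hom)) X.hom ≫ X.hom :=
    Limits.pullback.condition.symm.trans (congrArg (_ ≫ ·) hc₁)
  have hk₂ : Limits.pullback.snd (l₂ ≫ (Limits.pullback.fst X.hom X.hom ≫ X.hom)) X.hom ≫ X.hom =
      Limits.pullback.fst (l₂ ≫ (Limits.pullback.fst X.hom X.hom ≫ X.hom)) X.hom ≫ X.hom :=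
    Limits.pullback.condition.symm.trans (congrArg (_ ≫ ·) hc₂)
  let f := Limits.pullback.snd (Limits.pullback.fst X.hom X.hom ≫ X.hom) X.hom
  let g := Limits.pullback.fst (Limits.pullback.fst X.hom X.hom ≫ X.hom) X.hom
  haveI : GeometricallyIntegral (Limits.pullback.fst X.hom X.hom ≫ X.hom) :=
    geometricallyIntegral_prod (IsPullback.of_hasPullback X.hom X.hom) (Limits.pullback.fst X.hom X.hom ≫ X.hom) rfl
  haveI := W7See.geometricallyConnected_of_geometricallyIntegral f
  have hgen : ∀ z' : X.left, ∃ (W : X.left.Opens) (v : Γ(M, f ⁻¹ᵁ W)), z' ∈ W ∧ IsGen v := by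
    intro z'
    let z := eta (X.hom z')
    let jz := f.fiberι z
    have hw : (jz ≫ g) ≫ s₃.left = jz := by
      refine Limits.pullback.hom_ext ?_ ?_
      · rw [Category.assoc, ← Over.fst_left (R := X ⊗ X) (S := X), ← Over.comp_left, lift_fst, Over.id_left]
        exact Category.comp_id _
      · rw [Category.assoc, ← Over.snd_left (R := X ⊗ X) (S := X), ← Over.comp_left, lift_snd, Over.comp_left,
          Over.toUnit_left]
        calc (jz ≫ g) ≫ (Limits.pullback.fst X.hom X.hom ≫ X.hom) ≫ eta = (jz ≫ f) ≫ X.hom ≫ eta := by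
              rw [Category.assoc, ← Category.assoc g,
                show g ≫ (Limits.pullback.fst X.hom X.hom ≫ X.hom) = f ≫ X.hom from Limits.pullback.condition]
              simp only [Category.assoc]
          _ = jz ≫ f := by
              rw [f.fiber_fac z, Category.assoc, fromSpecResidueField_section eta X.hom heta]
    obtain ⟨W, hW, hzW, ⟨i⟩⟩ := exists_clopen_cube_base X.hom X.hom X.hom eta heta eta heta M hM
      l₁ (Limits.pullback.lift_fst _ _ _) (Limits.pullback.lift_snd _ _ _) (e₁ ≫ s₁.left)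
      (by
        refine Limits.pullback.hom_ext ?_ ?_
        · simp [s₁, e₁, l₁, eta, Limits.pullback.condition_assoc]
          exact (reassoc_of% hk₁) eta
        · simp [s₁, e₁, l₁])
      (by simp [s₁, e₁])
      l₂ (Limits.pullback.lift_fst _ _ _) (Limits.pullback.lift_snd _ _ _) (e₂ ≫ s₂.left)
      (by
        refine Limits.pullback.hom_ext ?_ ?_
        · simp [s₂, e₂, l₂]
        · simp [s₂, e₂, l₂, eta, Limits.pullback.condition_assoc]
          exact (reassoc_of% hk₂) eta)
      (by simp [s₂, e₂])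
      (((Scheme.Modules.pullbackComp e₁ s₁.left).app M).symm ≪≫ (Scheme.Modules.pullback e₁).mapIso j₁ ≪≫
        PicLoc.pullbackStructureIso e₁)
      (((Scheme.Modules.pullbackComp e₂ s₂.left).app M).symm ≪≫ (Scheme.Modules.pullback e₂).mapIso j₂ ≪≫
        PicLoc.pullbackStructureIso e₂)
      z ((Scheme.Modules.pullbackCongr hw.symm).app M ≪≫ ((Scheme.Modules.pullbackComp _ s₃.left).app M).symm ≪≫
        (Scheme.Modules.pullback (jz ≫ g)).mapIso j₃ ≪≫ PicLoc.pullbackStructureIso _)
    obtain ⟨v, hv⟩ := exists_gen_of_iso_preimage f W M i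
    refine ⟨W, v, ?_, hv⟩
    haveI : ConnectedSpace (X.hom.fiber (X.hom z')) :=
      GeometricallyConnected.geometrically_connectedSpace _ _ _ (IsPullback.of_hasPullback X.hom _)
    have hpre : _root_.IsPreconnected (X.hom ⁻¹' {X.hom z'}) := by
      rw [← Scheme.Hom.range_fiberι]
      exact isPreconnected_range (X.hom.fiberι (X.hom z')).continuous
    have hz : z ∈ X.hom ⁻¹' {X.hom z'} := by
      change X.hom (eta (X.hom z')) = X.hom z'
      rw [← Scheme.Hom.comp_apply eta X.hom, heta]
      rfl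
    exact hpre.subset_isClopen ⟨hW, W.2⟩ ⟨z, hz, hzW⟩ rfl
  have hb : ∀ W : X.left.Opens, Function.Bijective (f.app W).hom :=
    W7See.app_bijective_of_local f fun t => W7Hull.exists_nhd_app_bijective_of_lfp f t (W7See.bijective_fiber f t)
  obtain ⟨-, hc⟩ := W7See.seesaw_formal f hb M hM hgen
  let s : X ⟶ (X ⊗ X) ⊗ X := lift (lift (toUnit X ≫ η[X]) (toUnit X ≫ η[X])) (𝟙 X)
  have hs : defectR c (s ≫ fst _ _ ≫ fst _ _) (s ≫ fst _ _ ≫ snd _ _) (s ≫ snd _ _) = 1 := by
    simp only [s, lift_fst_assoc, lift_fst, lift_snd]; rw [← Hom.one_def]; exact (defectR_one c _ _).1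
  rw [← pull_defectR, e, pull_cls, PicGrp.cls_eq_one_iff] at hs
  exact W7See.nonempty_iso_unit_of_counit f M hc s.left (by simp [s, f]) hs.some

/-- **The cube relation for an abelian scheme.** -/
theorem cube_relR (c : PicLoc.PicSet X.left) {T : Over S} (f g h : T ⟶ X) :
    pcr c (f * g * h) * pcr c f * pcr c g * pcr c h = pcr c (f * g) * pcr c (f * h) * pcr c (g * h) * pcr c 1 := by
  have e := congrArg (pull (lift (lift f g) h).left) (defectR_univ c)
  rw [pull_defectR, map_one, lift_fst_assoc, lift_fst_assoc, lift_fst, lift_snd, lift_snd, defectR, mul_inv_eq_one] at e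
  exact e

end Groth.Agent.W7Cube
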