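import Groth.Agent.W7Cube.Open
import Groth.Agent.W7See.Locus
import Groth.Agent.TMul.CounitGen

/-!
The theorem of the cube over an arbitrary base.
-/

set_option autoImplicit false
set_option backward.isDefEq.respectTransparency false
set_option backward.isDefEq.respectTransparency.types false
set_option linter.style.haveILetI false
set_option maxHeartbeats 1000000

universe u

open CategoryTheory CategoryTheory.Limits AlgebraicGeometry TopologicalSpace Opposite
open TMul (IsGen)

noncomputable section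

namespace Groth.Agent.W7Cube

/-- A product of proper flat morphisms with geometrically integral fibres has geometrically integral fibres. -/
theorem geometricallyIntegral_prod {X Y Z P : Scheme.{u}} {pX : X ⟶ Z} {pY : Y ⟶ Z} [IsProper pX] [Flat pX]
    [GeometricallyIntegral pX] [IsProper pY] [Flat pY] [LocallyOfFinitePresentation pY] [GeometricallyIntegral pY]
    {p : P ⟶ X} {q : P ⟶ Y} (sq : IsPullback p q pX pY) (f : P ⟶ Z) (hf : f = p ≫ pX) :
    GeometricallyIntegral f := by
  refine ⟨fun K _ y T t₁ t₂ h => ?_⟩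
  haveI : IsIntegral (pullback pX y) :=
    GeometricallyIntegral.geometrically_isIntegral _ _ _ (IsPullback.of_hasPullback pX y)
  haveI : IsLocallyNoetherian (pullback pX y) := LocallyOfFiniteType.isLocallyNoetherian (pullback.snd pX y)
  let e : T ⟶ pullback pX y := pullback.lift (t₁ ≫ p) t₂ (by rw [Category.assoc, ← hf]; exact h.w)
  have h1 : IsPullback t₁ e p (pullback.fst pX y) := by
    refine IsPullback.of_bot ?_ (pullback.lift_fst _ _ _).symm (IsPullback.of_hasPullback pX y)
    rw [← hf, pullback.lift_snd]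
    exact h
  have h2 : IsPullback (t₁ ≫ q) e pY (pullback.fst pX y ≫ pX) := h1.paste_horiz sq.flip
  haveI : Flat e := MorphismProperty.of_isPullback h2 (inferInstance : Flat pY)
  haveI : LocallyOfFinitePresentation e :=
    MorphismProperty.of_isPullback h2 (inferInstance : LocallyOfFinitePresentation pY)
  haveI : GeometricallyIntegral e := MorphismProperty.of_isPullback h2 (inferInstance : GeometricallyIntegral pY)
  exact GeometricallyIntegral.isIntegral_of_isLocallyNoetherian e

section Clopen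

variable {X Y Z : Scheme.{u}} (pX : X ⟶ Z) (pY : Y ⟶ Z) [IsProper pX] [Flat pX] [GeometricallyIntegral pX]
  [IsProper pY] [Flat pY] [GeometricallyIntegral pY] [LocallyOfFinitePresentation pX] [LocallyOfFinitePresentation pY]

set_option maxHeartbeats 2000000 in
/-- **The cube.** -/
theorem exists_clopen_cube {P : Scheme.{u}} {p : P ⟶ X} {q : P ⟶ Y} (sq : IsPullback p q pX pY) (f : P ⟶ Z)
    (hf : f = p ≫ pX)
    (x : Z ⟶ X) (hx : x ≫ pX = 𝟙 Z) (y : Z ⟶ Y) (hy : y ≫ pY = 𝟙 Z)
    (a : Y ⟶ P) (ha : a ≫ q = 𝟙 _) (ha' : a ≫ p = pY ≫ x)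
    (b : X ⟶ P) (hb : b ≫ p = 𝟙 _) (hb' : b ≫ q = pX ≫ y)
    (L : P.Modules) (hL : PicF.IsInvertible L)
    (ja : (Scheme.Modules.pullback a).obj L ≅ Coh.structureModule Y)
    (jb : (Scheme.Modules.pullback b).obj L ≅ Coh.structureModule X)
    (z : Z) (i : CohIII.fiberMod f L z ≅ Coh.structureModule (f.fiber z)) :
    ∃ W : Z.Opens, IsClosed (W : Set Z) ∧ z ∈ W ∧
      Nonempty ((Scheme.Modules.pullback (f ⁻¹ᵁ W).ι).obj L ≅ Coh.structureModule _) := by
  haveI : IsProper p := MorphismProperty.of_isPullback sq.flip (inferInstance : IsProper pY)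
  haveI : Flat p := MorphismProperty.of_isPullback sq.flip (inferInstance : Flat pY)
  haveI : IsProper f := by rw [hf]; infer_instance
  haveI : Flat f := by rw [hf]; infer_instance
  haveI : LocallyOfFinitePresentation f := by
    rw [hf]
    haveI : LocallyOfFinitePresentation p :=
      MorphismProperty.of_isPullback sq.flip (inferInstance : LocallyOfFinitePresentation pY)
    infer_instance
  haveI : GeometricallyIntegral f := geometricallyIntegral_prod sq f hf
  haveI := W7See.geometricallyConnected_of_geometricallyIntegral pX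
  haveI := W7See.geometricallyConnected_of_geometricallyIntegral pY
  haveI := W7See.geometricallyConnected_of_geometricallyIntegral f
  have hb₁ := W7See.bijective_fiber f
  let F : Set Z := {z | Nonempty (CohIII.fiberMod f L z ≅ Coh.structureModule (f.fiber z))}
  have hF : IsClosed F := W7See.isClosed_trivial_locus_lfp f (fun _ => inferInstance) hb₁ L hL
  have hgen : ∀ z ∈ F, ∃ (U : Z.Opens) (g : Γ(L, f ⁻¹ᵁ U)), z ∈ U ∧ IsGen g := fun z hz =>
    exists_gen_near_cube pX pY sq f hf x hx y hy a ha ha' b hb hb' L hL ja jb z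
      (W7See.bijective_fiber pX z) (W7See.bijective_fiber pY z) hz.some
  have hsub : ∀ (U : Z.Opens) (g : Γ(L, f ⁻¹ᵁ U)), IsGen g → (U : Set Z) ⊆ F := by
    intro U g hg t ht
    have hle : (⊤ : (f.fiber t).Opens) ≤ f.fiberι t ⁻¹ᵁ (f ⁻¹ᵁ U) := fun w _ => by
      change f (f.fiberι t w) ∈ U
      rw [← Scheme.Hom.comp_apply, Scheme.Hom.fiber_fac, Scheme.Hom.comp_apply, Scheme.fromSpecResidueField_apply]
      exact ht
    obtain ⟨e⟩ := InvGen.nonempty_iso (𝟙 (f.fiber t)) _ (le_top.trans hle) _ (C1Cap.isGen_eta (f.fiberι t) hg)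
    exact ⟨(Scheme.Modules.restrictFunctorId.app _).symm ≪≫ e⟩
  have hop : IsOpen F := isOpen_iff_forall_mem_open.2 fun t ht => by
    obtain ⟨U, g, htU, hg⟩ := hgen t ht
    exact ⟨U, hsub U g hg, U.2, htU⟩
  let W : Z.Opens := ⟨F, hop⟩
  refine ⟨W, hF, ⟨i⟩, ?_⟩
  let fW := f ∣_ W
  let L' := L.restrict (f ⁻¹ᵁ W).ι
  have hbW : ∀ O : Z.Opens, Function.Bijective (f.app O).hom :=
    W7See.app_bijective_of_local f fun t => W7Hull.exists_nhd_app_bijective_of_lfp f t (hb₁ t)
  haveI : LocallyOfFinitePresentation fW := IsZariskiLocalAtTarget.restrict (P := @LocallyOfFinitePresentation) ‹_› W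
  haveI : IsProper fW := IsZariskiLocalAtTarget.restrict (P := @IsProper) ‹_› W
  have hbW' : ∀ O : W.toScheme.Opens, Function.Bijective (fW.app O).hom := fun O => by
    haveI : Flat fW := inferInstance
    refine W7See.app_bijective_of_local fW (fun t => W7Hull.exists_nhd_app_bijective_of_lfp fW t ?_) O
    haveI : GeometricallyConnected fW := inferInstance
    haveI : GeometricallyReduced fW := inferInstance
    exact W7See.bijective_fiber fW t
  have hgen' : ∀ t : W.toScheme, ∃ (U : W.toScheme.Opens) (g : Γ(L', fW ⁻¹ᵁ U)), t ∈ U ∧ IsGen g := by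
    intro t
    obtain ⟨U, g, htU, hg⟩ := hgen t.1 t.2
    have hle : (f ⁻¹ᵁ W).ι ''ᵁ (fW ⁻¹ᵁ (W.ι ⁻¹ᵁ U)) ≤ f ⁻¹ᵁ U := by
      rintro _ ⟨w, hw, rfl⟩
      change f ((f ⁻¹ᵁ W).ι w) ∈ U
      rw [← Scheme.Hom.comp_apply, ← morphismRestrict_ι]
      exact hw
    refine ⟨W.ι ⁻¹ᵁ U, (show Γ(L', fW ⁻¹ᵁ (W.ι ⁻¹ᵁ U)) from QC.res L hle g), htU, ?_⟩
    exact TMul.isGen_of_isGen_image (f ⁻¹ᵁ W).ι _ (hg.res hle)
  obtain ⟨-, hc⟩ := W7See.seesaw_formal fW hbW' L' (TMul.isInvertible_restrict _ hL) hgen'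
  let s : Z ⟶ P := y ≫ a
  have hsf : s ≫ f = 𝟙 Z := by
    rw [hf, Category.assoc, ← Category.assoc a, ha', Category.assoc, hx, Category.comp_id, hy]
  let sW : W.toScheme ⟶ (f ⁻¹ᵁ W).toScheme := (isPullback_morphismRestrict f W).lift (𝟙 _) (W.ι ≫ s)
    (by rw [Category.id_comp, Category.assoc, hsf, Category.comp_id])
  let j : (Scheme.Modules.pullback sW).obj L' ≅ Coh.structureModule W.toScheme :=
    (Scheme.Modules.pullback sW).mapIso ((Scheme.Modules.restrictFunctorIsoPullback (f ⁻¹ᵁ W).ι).app L) ≪≫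
      (Scheme.Modules.pullbackComp sW (f ⁻¹ᵁ W).ι).app L ≪≫
      (Scheme.Modules.pullbackCongr (show sW ≫ (f ⁻¹ᵁ W).ι = (W.ι ≫ y) ≫ a from
        ((isPullback_morphismRestrict f W).lift_snd _ _ _).trans (Category.assoc _ _ _).symm)).app L ≪≫
      ((Scheme.Modules.pullbackComp (W.ι ≫ y) a).app L).symm ≪≫
      (Scheme.Modules.pullback (W.ι ≫ y)).mapIso ja ≪≫ PicLoc.pullbackStructureIso _
  obtain ⟨e⟩ := W7See.nonempty_iso_unit_of_counit fW L' hc sW ((isPullback_morphismRestrict f W).lift_fst _ _ _) j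
  exact ⟨((Scheme.Modules.restrictFunctorIsoPullback (f ⁻¹ᵁ W).ι).app L).symm ≪≫ e⟩

end Clopen

end Groth.Agent.W7Cube
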