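import Groth.Agent.W7Cube.CoMap
import Groth.Agent.SiteCoh.Cartan

/-!
Reindexing of Čech cochains.
-/

set_option autoImplicit false
set_option backward.isDefEq.respectTransparency false
set_option backward.isDefEq.respectTransparency.types false
set_option linter.style.haveILetI false

universe u

open CategoryTheory CategoryTheory.Limits AlgebraicGeometry TopologicalSpace Opposite
open Groth.Agent.SiteCoh Groth.Agent.ProjCech Groth.Agent.W7Cech
open Groth.Agent.QC (res resO res_res res_self res_smul app_res)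

noncomputable section

namespace Groth.Agent.W7Cube

variable {X : Scheme.{u}} {ι : Type u} (U : ι → X.Opens)

lemma tupleProd_le {n : ℕ} (a : Fin (n + 1) → ι) (r : Fin (n + 1)) : tupleProd U a ≤ U (a r) :=
  (SiteCoh.tupleProd_eq_iInf U a).le.trans (iInf_le _ r)

lemma le_tupleProd {n : ℕ} (a : Fin (n + 1) → ι) {P : X.Opens} (h : ∀ r, P ≤ U (a r)) : P ≤ tupleProd U a :=
  (le_iInf h).trans (SiteCoh.tupleProd_eq_iInf U a).ge

lemma tupleProd_le_comp {m n : ℕ} (σ : Fin (m + 1) → Fin (n + 1)) (a : Fin (n + 1) → ι) :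
    tupleProd U a ≤ tupleProd U (a ∘ σ) :=
  le_tupleProd U (a ∘ σ) fun r => tupleProd_le U a (σ r)

variable (A : Type u) [CommRing A] [X.Over (Spec (CommRingCat.of A))] {F : X.Modules}

/-- Reindexing of cochains. -/
def rg {m n : ℕ} (σ : Fin (m + 1) → Fin (n + 1)) :
    (CoX A U F m : Type u) →ₗ[A] (CoX A U F n : Type u) where
  toFun x a := (res F (tupleProd_le_comp U σ a) (show Γ(F, tupleProd U (a ∘ σ)) from x (a ∘ σ)) :)
  map_add' x y := funext fun a => map_add (res F (tupleProd_le_comp U σ a))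
    (show Γ(F, tupleProd U (a ∘ σ)) from x (a ∘ σ)) (show Γ(F, tupleProd U (a ∘ σ)) from y (a ∘ σ))
  map_smul' r x := funext fun a => by
    refine (res_smul F (tupleProd_le_comp U σ a) (secRing A (tupleProd U (a ∘ σ)) r)
      (show Γ(F, tupleProd U (a ∘ σ)) from x (a ∘ σ))).trans ?_
    rw [resO_secRing]
    rfl

lemma rg_apply {m n : ℕ} (σ : Fin (m + 1) → Fin (n + 1)) (x : (CoX A U F m : Type u)) (a : Fin (n + 1) → ι) :
    rg U A σ x a = res F (tupleProd_le_comp U σ a) (show Γ(F, tupleProd U (a ∘ σ)) from x (a ∘ σ)) := rfl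

lemma rg_rg {l m n : ℕ} (σ : Fin (l + 1) → Fin (m + 1)) (τ : Fin (m + 1) → Fin (n + 1))
    (x : (CoX A U F l : Type u)) : rg U A τ (rg U A σ x) = rg U A (τ ∘ σ) x := funext fun a =>
  res_res F (tupleProd_le_comp U τ a) (tupleProd_le_comp U σ (a ∘ τ))
    (show Γ(F, tupleProd U ((a ∘ τ) ∘ σ)) from x ((a ∘ τ) ∘ σ))

lemma rg_id {n : ℕ} (x : (CoX A U F n : Type u)) : rg U A id x = x := funext fun a =>
  res_self F _ (show Γ(F, tupleProd U a) from x a)

lemma dL_eq_sum (n : ℕ) (x : (CoX A U F n : Type u)) :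
    dL A U F n x = ∑ r : Fin (n + 2), (-1 : ℤ) ^ (r : ℕ) • rg U A r.succAbove x := funext fun a => by
  rw [Finset.sum_apply]
  rfl

lemma dL_zero_eq (x : (CoX A U F 0 : Type u)) :
    dL A U F 0 x = rg U A (m := 0) (n := 1) ![1] x - rg U A (m := 0) (n := 1) ![0] x := by
  rw [dL_eq_sum, Fin.sum_univ_two]
  rw [show ((0 : Fin 2).succAbove : Fin 1 → Fin 2) = ![1] from by ext r; fin_cases r; rfl,
    show ((1 : Fin 2).succAbove : Fin 1 → Fin 2) = ![0] from by ext r; fin_cases r; rfl]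
  simp [sub_eq_add_neg]

lemma dL_one_eq (x : (CoX A U F 1 : Type u)) :
    dL A U F 1 x = rg U A (m := 1) (n := 2) ![1, 2] x - rg U A (m := 1) (n := 2) ![0, 2] x +
      rg U A (m := 1) (n := 2) ![0, 1] x := by
  rw [dL_eq_sum, Fin.sum_univ_three]
  rw [show ((0 : Fin 3).succAbove : Fin 2 → Fin 3) = ![1, 2] from by ext r; fin_cases r <;> rfl,
    show ((1 : Fin 3).succAbove : Fin 2 → Fin 3) = ![0, 2] from by ext r; fin_cases r <;> rfl,
    show ((2 : Fin 3).succAbove : Fin 2 → Fin 3) = ![0, 1] from by ext r; fin_cases r <;> rfl]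
  simp [sub_eq_add_neg]

variable {B : Type u} [CommRing B] {φ : A →+* B} {X' : Scheme.{u}} [X'.Over (Spec (CommRingCat.of B))]
  (g : X' ⟶ X) (w : g ≫ (X ↘ Spec (CommRingCat.of A)) = (X' ↘ Spec (CommRingCat.of B)) ≫ Spec.map (CommRingCat.ofHom φ))
  {G : X'.Modules}

lemma coX_rg (τ : F ⟶ (Scheme.Modules.pushforward g).obj G) {m n : ℕ} (σ : Fin (m + 1) → Fin (n + 1))
    (x : (CoX A U F m : Type u)) :
    coX g U τ w n (rg U A σ x) = rg (pre g U) B σ (coX g U τ w m x) := funext fun a => by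
  have key : ∀ {V W : X.Opens} (l : V ≤ W) {P Q : X'.Opens} (h1 : P ≤ g ⁻¹ᵁ V) (h2 : P ≤ Q) (h3 : Q ≤ g ⁻¹ᵁ W)
      (s : Γ(F, W)), res G h1 (τ.app V (res F l s)) = res G h2 (res G h3 (τ.app W s)) := fun {V W} l {P Q} h1 h2 h3 s => by
    rw [← app_res τ l s]
    change res G h1 (res G (g.preimage_mono l) (show Γ(G, g ⁻¹ᵁ W) from τ.app W s)) =
      res G h2 (res G h3 (show Γ(G, g ⁻¹ᵁ W) from τ.app W s))
    rw [res_res, res_res]
  exact key _ _ _ _ _

end Groth.Agent.W7Cube
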