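import Groth.Agent.W7Cube.Cube

/-!
The cube over a base with a third factor.
-/

set_option autoImplicit false
set_option backward.isDefEq.respectTransparency false
set_option backward.isDefEq.respectTransparency.types false
set_option linter.style.haveILetI false
set_option maxHeartbeats 1000000

universe u

open CategoryTheory CategoryTheory.Limits AlgebraicGeometry TopologicalSpace Opposite

noncomputable section

namespace Groth.Agent.W7Cube

set_option maxHeartbeats 2000000 in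
/-- The cube with a third factor over the base. -/
theorem exists_clopen_cube_base {S X Y Z : Scheme.{u}} (pX : X ⟶ S) (pY : Y ⟶ S) (pZ : Z ⟶ S)
    [Flat pX] [IsProper pX] [LocallyOfFinitePresentation pX] [GeometricallyIntegral pX]
    [Flat pY] [IsProper pY] [LocallyOfFinitePresentation pY] [GeometricallyIntegral pY]
    (x : S ⟶ X) (hx : x ≫ pX = 𝟙 S) (y : S ⟶ Y) (hy : y ≫ pY = 𝟙 S)
    (L : (pullback (pullback.fst pX pY ≫ pX) pZ).Modules) (hL : PicF.IsInvertible L)
    (l₁ : Y ⟶ pullback pX pY) (l₁₁ : l₁ ≫ pullback.fst pX pY = pY ≫ x) (l₁₂ : l₁ ≫ pullback.snd pX pY = 𝟙 Y)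
    (m₁ : pullback (l₁ ≫ (pullback.fst pX pY ≫ pX)) pZ ⟶ pullback (pullback.fst pX pY ≫ pX) pZ)
    (m₁₁ : m₁ ≫ pullback.fst _ _ = pullback.fst _ _ ≫ l₁) (m₁₂ : m₁ ≫ pullback.snd _ _ = pullback.snd _ _)
    (l₂ : X ⟶ pullback pX pY) (l₂₁ : l₂ ≫ pullback.fst pX pY = 𝟙 X) (l₂₂ : l₂ ≫ pullback.snd pX pY = pX ≫ y)
    (m₂ : pullback (l₂ ≫ (pullback.fst pX pY ≫ pX)) pZ ⟶ pullback (pullback.fst pX pY ≫ pX) pZ)
    (m₂₁ : m₂ ≫ pullback.fst _ _ = pullback.fst _ _ ≫ l₂) (m₂₂ : m₂ ≫ pullback.snd _ _ = pullback.snd _ _)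
    (h₁ : (Scheme.Modules.pullback m₁).obj L ≅ Coh.structureModule _)
    (h₂ : (Scheme.Modules.pullback m₂).obj L ≅ Coh.structureModule _)
    (z : Z) (h₃ : (Scheme.Modules.pullback ((pullback.snd (pullback.fst pX pY ≫ pX) pZ).fiberι z)).obj L ≅
      Coh.structureModule _) :
    ∃ W : Z.Opens, IsClosed (W : Set Z) ∧ z ∈ W ∧ Nonempty ((Scheme.Modules.pullback
      ((pullback.snd (pullback.fst pX pY ≫ pX) pZ) ⁻¹ᵁ W).ι).obj L ≅ Coh.structureModule _) := by
  let uX := pullback.fst pX pY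
  let uY := pullback.snd pX pY
  let g := pullback.fst (uX ≫ pX) pZ
  let f := pullback.snd (uX ≫ pX) pZ
  have hfg : g ≫ uX ≫ pX = f ≫ pZ := pullback.condition
  have hu : uX ≫ pX = uY ≫ pY := pullback.condition
  let p : pullback (uX ≫ pX) pZ ⟶ pullback pX pZ := pullback.lift (g ≫ uX) f ((Category.assoc _ _ _).trans hfg)
  let q : pullback (uX ≫ pX) pZ ⟶ pullback pY pZ := pullback.lift (g ≫ uY) f
    ((Category.assoc _ _ _).trans ((congrArg (g ≫ ·) hu.symm).trans hfg))
  have h1 : IsPullback g p uX (pullback.fst pX pZ) := by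
    refine IsPullback.of_bot ?_ (pullback.lift_fst _ _ _).symm (IsPullback.of_hasPullback pX pZ)
    rw [pullback.lift_snd]
    exact IsPullback.of_hasPullback (uX ≫ pX) pZ
  have h2 : IsPullback (q ≫ pullback.fst pY pZ) p pY (pullback.snd pX pZ ≫ pZ) := by
    rw [pullback.lift_fst, ← pullback.condition]
    exact h1.paste_horiz (IsPullback.of_hasPullback pX pY).flip
  have sq : IsPullback p q (pullback.snd pX pZ) (pullback.snd pY pZ) :=
    (IsPullback.of_right h2 ((pullback.lift_snd _ _ _).trans (pullback.lift_snd _ _ _).symm)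
      (IsPullback.of_hasPullback pY pZ)).flip
  let xZ : Z ⟶ pullback pX pZ := pullback.lift (pZ ≫ x) (𝟙 Z) (by rw [Category.assoc, hx, Category.comp_id, Category.id_comp])
  let yZ : Z ⟶ pullback pY pZ := pullback.lift (pZ ≫ y) (𝟙 Z) (by rw [Category.assoc, hy, Category.comp_id, Category.id_comp])
  have hc₁ : l₁ ≫ uX ≫ pX = pY := by rw [hu, reassoc_of% l₁₂]
  have hc₂ : l₂ ≫ uX ≫ pX = pX := by rw [reassoc_of% l₂₁]
  let e₁ : pullback pY pZ ⟶ pullback (l₁ ≫ (uX ≫ pX)) pZ :=
    pullback.lift (pullback.fst _ _) (pullback.snd _ _) ((congrArg (_ ≫ ·) hc₁).trans pullback.condition)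
  let e₂ : pullback pX pZ ⟶ pullback (l₂ ≫ (uX ≫ pX)) pZ :=
    pullback.lift (pullback.fst _ _) (pullback.snd _ _) ((congrArg (_ ≫ ·) hc₂).trans pullback.condition)
  let a := e₁ ≫ m₁
  let b := e₂ ≫ m₂
  have ha1 : a ≫ g = pullback.fst pY pZ ≫ l₁ := by
    rw [Category.assoc, m₁₁, pullback.lift_fst_assoc]
  have ha2 : a ≫ f = pullback.snd pY pZ := by rw [Category.assoc, m₁₂, pullback.lift_snd]
  have hb1 : b ≫ g = pullback.fst pX pZ ≫ l₂ := by
    rw [Category.assoc, m₂₁, pullback.lift_fst_assoc]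
  have hb2 : b ≫ f = pullback.snd pX pZ := by rw [Category.assoc, m₂₂, pullback.lift_snd]
  have ha : a ≫ q = 𝟙 _ := by
    refine pullback.hom_ext ?_ ?_
    · rw [Category.assoc, pullback.lift_fst, reassoc_of% ha1, l₁₂, Category.comp_id, Category.id_comp]
    · rw [Category.assoc, pullback.lift_snd, ha2, Category.id_comp]
  have hb : b ≫ p = 𝟙 _ := by
    refine pullback.hom_ext ?_ ?_
    · rw [Category.assoc, pullback.lift_fst, reassoc_of% hb1, l₂₁, Category.comp_id, Category.id_comp]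
    · rw [Category.assoc, pullback.lift_snd, hb2, Category.id_comp]
  have ha' : a ≫ p = pullback.snd pY pZ ≫ xZ := by
    refine pullback.hom_ext ?_ ?_
    · rw [Category.assoc, pullback.lift_fst, reassoc_of% ha1, l₁₁, Category.assoc, pullback.lift_fst,
        pullback.condition_assoc]
    · rw [Category.assoc, pullback.lift_snd, ha2, Category.assoc, pullback.lift_snd, Category.comp_id]
  have hb' : b ≫ q = pullback.snd pX pZ ≫ yZ := by
    refine pullback.hom_ext ?_ ?_
    · rw [Category.assoc, pullback.lift_fst, reassoc_of% hb1, l₂₂, Category.assoc, pullback.lift_fst,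
        pullback.condition_assoc]
    · rw [Category.assoc, pullback.lift_snd, hb2, Category.assoc, pullback.lift_snd, Category.comp_id]
  exact exists_clopen_cube (pullback.snd pX pZ) (pullback.snd pY pZ) sq f (pullback.lift_snd _ _ _).symm
    xZ (pullback.lift_snd _ _ _) yZ (pullback.lift_snd _ _ _) a ha ha' b hb hb' L hL
    (((Scheme.Modules.pullbackComp e₁ m₁).app L).symm ≪≫ (Scheme.Modules.pullback e₁).mapIso h₁ ≪≫
      PicLoc.pullbackStructureIso e₁)
    (((Scheme.Modules.pullbackComp e₂ m₂).app L).symm ≪≫ (Scheme.Modules.pullback e₂).mapIso h₂ ≪≫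
      PicLoc.pullbackStructureIso e₂)
    z h₃

/-- A module trivial over the whole space is trivial. -/
theorem nonempty_iso_of_preimage_top {X Z : Scheme.{u}} (f : X ⟶ Z) {W : Z.Opens} (hW : W = ⊤) (L : X.Modules)
    (e : Nonempty ((Scheme.Modules.pullback (f ⁻¹ᵁ W).ι).obj L ≅ Coh.structureModule _)) :
    Nonempty (L ≅ Coh.structureModule X) := by
  subst hW
  obtain ⟨i⟩ := e
  let s : X ⟶ (f ⁻¹ᵁ (⊤ : Z.Opens)).toScheme := IsOpenImmersion.lift (f ⁻¹ᵁ (⊤ : Z.Opens)).ι (𝟙 X)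
    (by rw [Scheme.Opens.range_ι]; exact fun t _ => trivial)
  have hs : s ≫ (f ⁻¹ᵁ (⊤ : Z.Opens)).ι = 𝟙 X := IsOpenImmersion.lift_fac _ _ _
  exact ⟨((Scheme.Modules.pullbackId X).app L).symm ≪≫ (Scheme.Modules.pullbackCongr hs.symm).app L ≪≫
    ((Scheme.Modules.pullbackComp s _).app L).symm ≪≫ (Scheme.Modules.pullback s).mapIso i ≪≫
    PicLoc.pullbackStructureIso s⟩

end Groth.Agent.W7Cube
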