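import Groth.Agent.W7Cube.Affine
import Groth.Agent.W7Hull.PushOne
import Groth.Agent.W7See.Main

/-!
The cube, openness: trivial on both slices and on one fibre, hence trivial near that fibre.
-/

set_option autoImplicit false
set_option backward.isDefEq.respectTransparency false
set_option backward.isDefEq.respectTransparency.types false
set_option linter.style.haveILetI false
set_option maxHeartbeats 1000000

universe u

open CategoryTheory CategoryTheory.Limits AlgebraicGeometry TopologicalSpace Opposite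
open Groth.Agent.SiteCoh Groth.Agent.W7Cech
open Groth.Agent.QC (res resO res_res res_self res_smul app_res)
open TMul (IsGen)
open Groth.Agent.W7Hull (one isGen_one)

noncomputable section

namespace Groth.Agent.W7Cube

section Unit

variable {X Y : Scheme.{u}} (f : X ⟶ Y) [IsProper f] [Flat f] [LocallyOfFinitePresentation f]

set_option maxHeartbeats 2000000 in
/-- Only constant functions on a fibre: `T⁰` of the structure sheaf is exact nearby. -/
theorem exists_nhd_epi_unit (y : Y)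
    (hy : Function.Bijective ((f.fiberToSpecResidueField y).appTop.hom.comp
      (Scheme.ΓSpecIso (Y.residueField y)).inv.hom)) :
    ∃ W : Y.Opens, y ∈ W ∧ ∀ (U : Y.Opens) (hU : IsAffineOpen U), U ≤ W →
      ∀ m : ModelNN f (Coh.structureModule X) hU, (CohIII.TFun m.L 0).PreservesEpimorphisms := by
  let O := Coh.structureModule X
  have hq : Coh.IsQCoh O := QC.isQCoh_unit X
  have hF : CohB1.IsFP O := SchDense.isFP_unit X
  have hfl : FlatMod.IsFlatOver f O := SchDense.isFlatOver_unit f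
  let f' := f.fiberToSpecResidueField y
  let ι := f.fiberι y
  obtain ⟨V₀, hV₀, hyV₀, -⟩ := exists_isAffineOpen_mem_and_subset (x := y) (U := ⊤) trivial
  have hle : f' ⁻¹ᵁ ⊤ ≤ ι ⁻¹ᵁ (f ⁻¹ᵁ V₀) := fun z _ => by
    change f (ι z) ∈ V₀
    rw [← Scheme.Hom.comp_apply, Scheme.Hom.fiber_fac, Scheme.Hom.comp_apply, Scheme.fromSpecResidueField_apply]
    exact hyV₀
  have hq0 : Function.Bijective (Scheme.ΓSpecIso (Y.residueField y)).inv.hom :=
    ConcreteCategory.bijective_of_isIso _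
  have hf' : Function.Bijective (f'.app ⊤).hom := (Function.Bijective.of_comp_iff _ hq0).1 hy
  have hgen : IsGen (ModDesc.pullSectLE ι O (f ⁻¹ᵁ V₀) (f' ⁻¹ᵁ ⊤) hle (one (f ⁻¹ᵁ V₀))) := by
    rw [ModDesc.pullSectLE_apply]
    exact (C1Cap.isGen_eta ι (isGen_one (f ⁻¹ᵁ V₀))).res _
  have hspan : SpanAt f O f' ι V₀ ⊤ hle := by
    refine eq_top_iff.2 fun x _ => ?_
    obtain ⟨c, hc⟩ := (hgen (f' ⁻¹ᵁ ⊤) le_rfl).2
      (show Γ((Scheme.Modules.pullback ι).obj O, f' ⁻¹ᵁ ⊤) from x)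
    obtain ⟨b, rfl⟩ := hf'.2 c
    change (f'.app ⊤).hom b • res ((Scheme.Modules.pullback ι).obj O) le_rfl
      (ModDesc.pullSectLE ι O (f ⁻¹ᵁ V₀) (f' ⁻¹ᵁ ⊤) hle (one (f ⁻¹ᵁ V₀))) = _ at hc
    rw [QC.res_self] at hc
    have hb : x = b • (show (SM f' ((Scheme.Modules.pullback ι).obj O) (f' ⁻¹ᵁ ⊤) le_rfl : Type u) from
        ModDesc.pullSectLE ι O (f ⁻¹ᵁ V₀) (f' ⁻¹ᵁ ⊤) hle (one (f ⁻¹ᵁ V₀))) := by
      refine hc.symm.trans ?_
      change (f'.app ⊤).hom b • ModDesc.pullSectLE ι O (f ⁻¹ᵁ V₀) (f' ⁻¹ᵁ ⊤) hle (one (f ⁻¹ᵁ V₀)) =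
        (f'.appLE ⊤ (f' ⁻¹ᵁ ⊤) le_rfl).hom b • ModDesc.pullSectLE ι O (f ⁻¹ᵁ V₀) (f' ⁻¹ᵁ ⊤) hle (one (f ⁻¹ᵁ V₀))
      rw [← f'.app_eq_appLE]
    rw [hb]
    exact Submodule.smul_mem _ b (Submodule.subset_span ⟨one (f ⁻¹ᵁ V₀), rfl⟩)
  obtain ⟨W, hyW, -, hW⟩ := exists_nhd_epi_of_spanAt f O hq hF hfl y hV₀ hyV₀ _ hspan
  exact ⟨W, hyW, hW⟩

omit [Flat f] in
/-- Exact `T⁰` of a model: `T¹` of Čech complexes of functions is left exact. -/
theorem preservesMono_of_model {U : Y.Opens} (hU : IsAffineOpen U) (m : ModelNN f (Coh.structureModule X) hU)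
    (he : (CohIII.TFun m.L 0).PreservesEpimorphisms) :
    letI : (f ⁻¹ᵁ U).toScheme.Over (Spec (CommRingCat.of Γ(Y, U))) := ⟨(f ∣_ U) ≫ hU.isoSpec.hom⟩
    ∀ (ι : Type u) [Finite ι] (W : ι → (f ⁻¹ᵁ U).toScheme.Opens),
      (∀ (n : ℕ) (c : Fin (n + 1) → ι), IsAffineOpen (tupleProd W c)) → iSup W = ⊤ →
        (CohIII.TFun ((CC Γ(Y, U) W).obj (Coh.structureModule (f ⁻¹ᵁ U).toScheme)) 1).PreservesMonomorphisms := by
  letI : (f ⁻¹ᵁ U).toScheme.Over (Spec (CommRingCat.of Γ(Y, U))) := ⟨(f ∣_ U) ≫ hU.isoSpec.hom⟩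
  intro ι _ W hW hWc
  obtain ⟨e⟩ := m.hT ι W hW hWc 1
  have hm : (CohIII.TFun m.L ((1 : ℕ) : ℤ)).PreservesMonomorphisms :=
    (T_epi_iff_mono_succ m.L (flatX m.L m.hL) 0).1 he
  let i := (CC Γ(Y, U) W).mapIso (Scheme.Modules.restrictUnitIso (f ⁻¹ᵁ U).ι)
  let η : CohIII.TFun ((CC Γ(Y, U) W).obj ((Coh.structureModule X).restrict (f ⁻¹ᵁ U).ι)) 1 ≅
      CohIII.TFun ((CC Γ(Y, U) W).obj (Coh.structureModule (f ⁻¹ᵁ U).toScheme)) 1 :=
    NatIso.ofComponents (fun M => HomologicalComplex.homologyMapIso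
      (((MonoidalCategory.tensorRight M).mapHomologicalComplex _).mapIso i) 1)
      fun {M N} g => (TNat i.hom 1).naturality g
  exact Functor.PreservesMonomorphisms.of_iso (e ≪≫ η)

end Unit

/-- The base change of a restriction to the residue field of the ring is the fibre. -/
theorem exists_fibre_iso {X Z : Scheme.{u}} (f : X ⟶ Z) {U : Z.Opens} (hU : IsAffineOpen U) (z : Z) (hz : z ∈ U) :
    ∃ (i : pullback ((f ∣_ U) ≫ hU.isoSpec.hom)
        (Spec.map (CommRingCat.ofHom (algebraMap Γ(Z, U) (specPt z hz).asIdeal.ResidueField))) ≅ f.fiber z)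
      (σ : Spec (CommRingCat.of (specPt z hz).asIdeal.ResidueField) ⟶ Spec (Z.residueField z)),
      IsIso σ ∧ i.hom ≫ f.fiberι z = pullback.fst _ _ ≫ (f ⁻¹ᵁ U).ι ∧
        i.hom ≫ f.fiberToSpecResidueField z = pullback.snd _ _ ≫ σ := by
  letI : Algebra Γ(Z, U) (Z.residueField z) := (Z.evaluation U z hz).hom.toAlgebra
  obtain ⟨σ, hσ⟩ := exists_residueField_equiv (k := Z.residueField z) (evaluation_frac hU z hz) (specPt z hz) rfl
  let A : Type u := Γ(Z, U)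
  let k : Type u := (specPt z hz).asIdeal.ResidueField
  let S := Spec.map (CommRingCat.ofHom (algebraMap A k))
  let e : CommRingCat.of k ≅ Z.residueField z := σ.symm.toCommRingCatIso
  let s : Spec (CommRingCat.of k) ⟶ Spec (Z.residueField z) := Spec.map e.inv
  have hs : s ≫ Z.fromSpecResidueField z = S ≫ hU.fromSpec := by
    rw [← SpecMap_evaluation_fromSpec hU z hz, ← Category.assoc, ← Spec.map_comp]
    congr 2
    ext r
    exact hσ r
  let π := (f ∣_ U) ≫ hU.isoSpec.hom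
  have hP : IsPullback (f ⁻¹ᵁ U).ι π f hU.fromSpec :=
    ((isPullback_morphismRestrict f U).flip).of_iso (Iso.refl _) (Iso.refl _) hU.isoSpec (Iso.refl _)
      (by simp) (by simp [π]) (by simp) (by simp)
  have h1 : IsPullback (pullback.fst π S ≫ (f ⁻¹ᵁ U).ι) (pullback.snd π S) f (s ≫ Z.fromSpecResidueField z) := by
    rw [hs]
    exact (IsPullback.of_hasPullback π S).paste_horiz hP
  have h2 : IsPullback (pullback.fst π S ≫ (f ⁻¹ᵁ U).ι) (pullback.snd π S ≫ s) f (Z.fromSpecResidueField z) :=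
    h1.of_iso (Iso.refl _) (Iso.refl _) (asIso s) (Iso.refl _) (by simp) (by simp) (by simp) (by simp)
  exact ⟨h2.isoPullback, s, inferInstance, h2.isoPullback_hom_fst, h2.isoPullback_hom_snd⟩

section Main

variable {X Y Z : Scheme.{u}} (pX : X ⟶ Z) (pY : Y ⟶ Z) [IsProper pX] [Flat pX] [IsProper pY] [Flat pY]
  [LocallyOfFinitePresentation pX] [LocallyOfFinitePresentation pY]

set_option maxHeartbeats 4000000 in
/-- **Openness in the cube.** A bundle on `X ×_Z Y` trivial on both slices and on the fibre over `z` is trivial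
near `z`. -/
theorem exists_gen_near_cube {P : Scheme.{u}} {p : P ⟶ X} {q : P ⟶ Y} (sq : IsPullback p q pX pY) (f : P ⟶ Z)
    (hf : f = p ≫ pX) [IsProper f] [Flat f]
    (x : Z ⟶ X) (hx : x ≫ pX = 𝟙 Z) (y : Z ⟶ Y) (hy : y ≫ pY = 𝟙 Z)
    (a : Y ⟶ P) (ha : a ≫ q = 𝟙 _) (ha' : a ≫ p = pY ≫ x)
    (b : X ⟶ P) (hb : b ≫ p = 𝟙 _) (hb' : b ≫ q = pX ≫ y)
    (L : P.Modules) (hL : PicF.IsInvertible L)
    (ja : (Scheme.Modules.pullback a).obj L ≅ Coh.structureModule Y)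
    (jb : (Scheme.Modules.pullback b).obj L ≅ Coh.structureModule X)
    (z : Z)
    (hzX : Function.Bijective ((pX.fiberToSpecResidueField z).appTop.hom.comp
      (Scheme.ΓSpecIso (Z.residueField z)).inv.hom))
    (hzY : Function.Bijective ((pY.fiberToSpecResidueField z).appTop.hom.comp
      (Scheme.ΓSpecIso (Z.residueField z)).inv.hom))
    (i : CohIII.fiberMod f L z ≅ Coh.structureModule (f.fiber z)) :
    ∃ (U : Z.Opens) (g : Γ(L, f ⁻¹ᵁ U)), z ∈ U ∧ IsGen g := by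
  haveI : LocallyOfFinitePresentation f := by
    rw [hf]
    haveI : LocallyOfFinitePresentation p :=
      MorphismProperty.of_isPullback sq.flip (inferInstance : LocallyOfFinitePresentation pY)
    infer_instance
  have hF := W7Hull.isFP_of_isInvertible hL
  have hfl := W7Hull.isFlatOver_of_isInvertible f hL
  have hq := FibDepth.isQCoh_of_isFP hF
  have hqf : q ≫ pY = f := sq.w.symm.trans hf.symm
  obtain ⟨WX, hzWX, hWX⟩ := exists_nhd_epi_unit pX z hzX
  obtain ⟨WY, hzWY, hWY⟩ := exists_nhd_epi_unit pY z hzY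
  obtain ⟨U, hU, hzU, hUW⟩ := exists_isAffineOpen_mem_and_subset (x := z) (U := WX ⊓ WY) ⟨hzWX, hzWY⟩
  obtain ⟨m⟩ := nonempty_ModelNN f hq hF hfl hU
  obtain ⟨mX⟩ := nonempty_ModelNN pX (QC.isQCoh_unit X) (SchDense.isFP_unit X) (SchDense.isFlatOver_unit pX) hU
  obtain ⟨mY⟩ := nonempty_ModelNN pY (QC.isQCoh_unit Y) (SchDense.isFP_unit Y) (SchDense.isFlatOver_unit pY) hU
  let A : Type u := Γ(Z, U)
  let X₀ := pX ⁻¹ᵁ U
  let Y₀ := pY ⁻¹ᵁ U
  let P₀ := f ⁻¹ᵁ U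
  letI : X₀.toScheme.Over (Spec (CommRingCat.of A)) := ⟨(pX ∣_ U) ≫ hU.isoSpec.hom⟩
  letI : Y₀.toScheme.Over (Spec (CommRingCat.of A)) := ⟨(pY ∣_ U) ≫ hU.isoSpec.hom⟩
  letI : P₀.toScheme.Over (Spec (CommRingCat.of A)) := ⟨(f ∣_ U) ≫ hU.isoSpec.hom⟩
  haveI : IsProper (pX ∣_ U) := IsZariskiLocalAtTarget.restrict (P := @IsProper) ‹_› U
  haveI : IsProper (pY ∣_ U) := IsZariskiLocalAtTarget.restrict (P := @IsProper) ‹_› U
  haveI : IsProper (X₀.toScheme ↘ Spec (CommRingCat.of A)) :=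
    inferInstanceAs (IsProper ((pX ∣_ U) ≫ hU.isoSpec.hom))
  haveI : IsProper (Y₀.toScheme ↘ Spec (CommRingCat.of A)) :=
    inferInstanceAs (IsProper ((pY ∣_ U) ≫ hU.isoSpec.hom))
  have hsq : ∀ {T : Scheme.{u}} (g : T ⟶ Z), IsPullback (g ⁻¹ᵁ U).ι ((g ∣_ U) ≫ hU.isoSpec.hom) g hU.fromSpec :=
    fun g => ((isPullback_morphismRestrict g U).flip).of_iso (Iso.refl _) (Iso.refl _) hU.isoSpec (Iso.refl _)
      (by simp) (by simp) (by simp) (by simp)
  let πX := (pX ∣_ U) ≫ hU.isoSpec.hom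
  let πY := (pY ∣_ U) ≫ hU.isoSpec.hom
  let πP := (f ∣_ U) ≫ hU.isoSpec.hom
  let p₀ : P₀.toScheme ⟶ X₀.toScheme := (hsq pX).lift (P₀.ι ≫ p) πP (by rw [Category.assoc, ← hf]; exact (hsq f).w)
  let q₀ : P₀.toScheme ⟶ Y₀.toScheme := (hsq pY).lift (P₀.ι ≫ q) πP (by rw [Category.assoc, hqf]; exact (hsq f).w)
  have hp₀ : p₀ ≫ πX = πP := (hsq pX).lift_snd _ _ _
  have hq₀ : q₀ ≫ πY = πP := (hsq pY).lift_snd _ _ _
  have hp₀' : p₀ ≫ X₀.ι = P₀.ι ≫ p := (hsq pX).lift_fst _ _ _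
  have hq₀' : q₀ ≫ Y₀.ι = P₀.ι ≫ q := (hsq pY).lift_fst _ _ _
  have sq₀ : IsPullback p₀ q₀ πX πY := by
    have h1 : IsPullback P₀.ι p₀ p X₀.ι := by
      refine IsPullback.of_bot ?_ hp₀'.symm (hsq pX)
      rw [hp₀, ← hf]
      exact hsq f
    have h2 : IsPullback (q₀ ≫ Y₀.ι) p₀ pY (πX ≫ hU.fromSpec) := by
      rw [hq₀', ← (hsq pX).w]
      exact h1.paste_horiz sq.flip
    exact (IsPullback.of_right h2 (hq₀.trans hp₀.symm) (hsq pY)).flip
  let x₀ : Spec (CommRingCat.of A) ⟶ X₀.toScheme := (hsq pX).lift (hU.fromSpec ≫ x) (𝟙 _) (by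
    rw [Category.assoc, hx, Category.comp_id, Category.id_comp])
  let y₀ : Spec (CommRingCat.of A) ⟶ Y₀.toScheme := (hsq pY).lift (hU.fromSpec ≫ y) (𝟙 _) (by
    rw [Category.assoc, hy, Category.comp_id, Category.id_comp])
  let a₀ : Y₀.toScheme ⟶ P₀.toScheme := (hsq f).lift (Y₀.ι ≫ a) πY (by
    rw [Category.assoc, ← hqf, ← Category.assoc a, ha, Category.id_comp]; exact (hsq pY).w)
  let b₀ : X₀.toScheme ⟶ P₀.toScheme := (hsq f).lift (X₀.ι ≫ b) πX (by
    rw [Category.assoc, hf, ← Category.assoc b, hb, Category.id_comp]; exact (hsq pX).w)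
  have hx₀ : x₀ ≫ πX = 𝟙 _ := (hsq pX).lift_snd _ _ _
  have hy₀ : y₀ ≫ πY = 𝟙 _ := (hsq pY).lift_snd _ _ _
  have haf : a₀ ≫ P₀.ι = Y₀.ι ≫ a := (hsq f).lift_fst _ _ _
  have hbf : b₀ ≫ P₀.ι = X₀.ι ≫ b := (hsq f).lift_fst _ _ _
  have has : a₀ ≫ πP = πY := (hsq f).lift_snd _ _ _
  have hbs : b₀ ≫ πP = πX := (hsq f).lift_snd _ _ _
  have ha₀ : a₀ ≫ q₀ = 𝟙 _ := by
    apply (hsq pY).hom_ext
    · rw [Category.assoc, hq₀', ← Category.assoc, haf, Category.assoc, ha, Category.comp_id, Category.id_comp]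
    · rw [Category.assoc, hq₀, has, Category.id_comp]
  have hb₀ : b₀ ≫ p₀ = 𝟙 _ := by
    apply (hsq pX).hom_ext
    · rw [Category.assoc, hp₀', ← Category.assoc, hbf, Category.assoc, hb, Category.comp_id, Category.id_comp]
    · rw [Category.assoc, hp₀, hbs, Category.id_comp]
  have ha₀' : a₀ ≫ p₀ = πY ≫ x₀ := by
    apply (hsq pX).hom_ext
    · rw [Category.assoc, hp₀', ← Category.assoc, haf, Category.assoc, ha', Category.assoc,
        (hsq pX).lift_fst, ← Category.assoc, (hsq pY).w, Category.assoc]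
    · rw [Category.assoc, hp₀, has, Category.assoc, hx₀]; exact (Category.comp_id _).symm
  have hb₀' : b₀ ≫ q₀ = πX ≫ y₀ := by
    apply (hsq pY).hom_ext
    · rw [Category.assoc, hq₀', ← Category.assoc, hbf, Category.assoc, hb', Category.assoc,
        (hsq pY).lift_fst, ← Category.assoc, (hsq pX).w, Category.assoc]
    · rw [Category.assoc, hq₀, hbs, Category.assoc, hy₀]; exact (Category.comp_id _).symm
  let F := L.restrict P₀.ι
  let eF : F ≅ (Scheme.Modules.pullback P₀.ι).obj L := (Scheme.Modules.restrictFunctorIsoPullback P₀.ι).app L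
  have hpull : ∀ {T T' : Scheme.{u}} (g : T ⟶ P₀.toScheme) (g' : T ⟶ T') (h : T' ⟶ P)
      (j : (Scheme.Modules.pullback h).obj L ≅ Coh.structureModule T') (_ : g ≫ P₀.ι = g' ≫ h),
      Nonempty ((Scheme.Modules.pullback g).obj F ≅ Coh.structureModule T) := fun g g' h j w =>
    ⟨(Scheme.Modules.pullback g).mapIso eF ≪≫ (Scheme.Modules.pullbackComp g P₀.ι).app L ≪≫
      (Scheme.Modules.pullbackCongr w).app L ≪≫ ((Scheme.Modules.pullbackComp g' h).app L).symm ≪≫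
      (Scheme.Modules.pullback g').mapIso j ≪≫ PicLoc.pullbackStructureIso g'⟩
  obtain ⟨ja₀⟩ := hpull a₀ Y₀.ι a ja haf
  obtain ⟨jb₀⟩ := hpull b₀ X₀.ι b jb hbf
  let s := specPt z hzU
  have hbij : ∀ {T : Scheme.{u}} (g : T ⟶ Z),
      Function.Bijective ((g.fiberToSpecResidueField z).appTop.hom.comp (Scheme.ΓSpecIso (Z.residueField z)).inv.hom) →
      Function.Bijective (pullback.snd ((g ∣_ U) ≫ hU.isoSpec.hom)
        (Spec.map (CommRingCat.ofHom (algebraMap A s.asIdeal.ResidueField)))).appTop.hom := by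
    intro T g hg
    obtain ⟨e, σ, hσ, -, he⟩ := exists_fibre_iso g hU z hzU
    haveI := hσ
    have h0 : Function.Bijective (g.fiberToSpecResidueField z).appTop.hom :=
      (Function.Bijective.of_comp_iff _ (ConcreteCategory.bijective_of_isIso _)).1 hg
    have h1 := congrArg Scheme.Hom.appTop he
    rw [Scheme.Hom.comp_appTop, Scheme.Hom.comp_appTop] at h1
    have hσb : Function.Bijective σ.appTop.hom := ConcreteCategory.bijective_of_isIso σ.appTop
    refine (Function.Bijective.of_comp_iff _ hσb).1 ?_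
    have h2 := congrArg (fun φ => ⇑(CommRingCat.Hom.hom φ)) h1
    simp only [CommRingCat.hom_comp, RingHom.coe_comp] at h2
    exact h2 ▸ (ConcreteCategory.bijective_of_isIso e.hom.appTop).comp h0
  obtain ⟨e, σ, -, he, -⟩ := exists_fibre_iso f hU z hzU
  obtain ⟨j⟩ := hpull (pullback.fst πP (Spec.map (CommRingCat.ofHom (algebraMap A s.asIdeal.ResidueField))))
    e.hom (f.fiberι z) i he.symm
  have hmem := mem_freeLocus_cube A p₀ q₀ sq₀ hp₀ x₀ hx₀ y₀ hy₀ a₀ ha₀ ha₀' b₀ hb₀ hb₀' F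
    (by exact TMul.isInvertible_restrict P₀.ι hL) ja₀ jb₀ m.L m.hL (fun ι _ W hW hWc => m.hT ι W hW hWc 1)
    (preservesMono_of_model pY hU mY (hWY U hU (hUW.trans inf_le_right) mY))
    (preservesMono_of_model pX hU mX (hWX U hU (hUW.trans inf_le_left) mX))
    s (hbij pX hzX) (hbij pY hzY) j
  have hle : f.fiberToSpecResidueField z ⁻¹ᵁ ⊤ ≤ f.fiberι z ⁻¹ᵁ (f ⁻¹ᵁ U) := fun t _ => by
    change f (f.fiberι z t) ∈ U
    rw [← Scheme.Hom.comp_apply, Scheme.Hom.fiber_fac, Scheme.Hom.comp_apply, Scheme.fromSpecResidueField_apply]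
    exact hzU
  have hspan := (spanAt_iff f L hq hfl hU m z hzU hle).2 (specPt_eq hU z hzU ▸ hmem)
  obtain ⟨W, hzW, -, hW⟩ := exists_nhd_epi_of_spanAt f L hq hF hfl z hU hzU hle hspan
  exact W7Hull.exists_gen_near_of_epi_lfp f L hL z ⟨W, hzW, hW⟩ i

end Main

end Groth.Agent.W7Cube
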