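import Groth.Agent.FlatCx.Local
import Mathlib.RingTheory.Length
import Mathlib.RingTheory.LocalRing.Module
import Mathlib.LinearAlgebra.Dual.Lemmas
import Mathlib.LinearAlgebra.Contraction

/-!
Over any local ring, lifting of cocycles along extensions by modules of finite length gives lifting from the residue
field.
-/

set_option autoImplicit false
set_option backward.isDefEq.respectTransparency false
set_option backward.isDefEq.respectTransparency.types false
set_option linter.style.haveILetI false

universe u

open CategoryTheory TensorProduct IsLocalRing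
open Groth.Agent.FlatCx

noncomputable section

namespace Groth.Agent.W7Cube

section Ev

variable (S : Type u) [CommRing S] (F : Type u) [AddCommGroup F] [Module S F] [Module.Finite S F]
  [Module.Free S F] (M : Type u) [AddCommGroup M] [Module S M]

/-- Tensors with a finite free module as maps out of its dual. -/
def ev : F ⊗[S] M ≃ₗ[S] (Module.Dual S F →ₗ[S] M) :=
  ((Module.evalEquiv S F).rTensor M).trans (dualTensorHomEquiv S (Module.Dual S F) M)

variable {S F M}

lemma ev_tmul (u : F) (m : M) (μ : Module.Dual S F) : ev S F M (u ⊗ₜ m) μ = μ u • m := by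
  simp [ev, dualTensorHomEquiv]

lemma ev_lTensor {N : Type u} [AddCommGroup N] [Module S N] (g : M →ₗ[S] N) (x : F ⊗[S] M) :
    ev S F N (g.lTensor F x) = g ∘ₗ ev S F M x := by
  ext μ
  induction x using TensorProduct.induction_on with
  | zero => simp
  | tmul u m => simp [ev_tmul]
  | add x y hx hy => simp [map_add, hx, hy]

lemma ev_rTensor {G : Type u} [AddCommGroup G] [Module S G] [Module.Finite S G] [Module.Free S G]
    (d : F →ₗ[S] G) (x : F ⊗[S] M) (μ : Module.Dual S G) :
    ev S G M (d.rTensor M x) μ = ev S F M x (d.dualMap μ) := by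
  induction x using TensorProduct.induction_on with
  | zero => simp
  | tmul u m => simp [ev_tmul]
  | add x y hx hy => simp [map_add, hx, hy]

lemma rTensor_eq_zero_iff {G : Type u} [AddCommGroup G] [Module S G] [Module.Finite S G] [Module.Free S G]
    (d : F →ₗ[S] G) (x : F ⊗[S] M) :
    d.rTensor M x = 0 ↔ ∀ k ∈ LinearMap.range d.dualMap, ev S F M x k = 0 := by
  constructor
  · rintro h _ ⟨μ, rfl⟩
    rw [← ev_rTensor, h, map_zero, LinearMap.zero_apply]
  · intro h
    refine (ev S G M).injective (LinearMap.ext fun μ => ?_)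
    rw [ev_rTensor, map_zero, LinearMap.zero_apply]
    exact h _ ⟨μ, rfl⟩

end Ev

variable {S : Type u} [CommRing S] [IsLocalRing S]

/-- A finite submodule of a finite free module to which every functional to the residue field extends is a direct
summand. -/
theorem exists_retraction {V : Type u} [AddCommGroup V] [Module S V] [Module.Finite S V] [Module.Free S V]
    (K : Submodule S V) [Module.Finite S K]
    (h : ∀ φ : K →ₗ[S] ResidueField S, ∃ ψ : V →ₗ[S] ResidueField S, ψ ∘ₗ K.subtype = φ) :
    ∃ r : V →ₗ[S] K, r ∘ₗ K.subtype = LinearMap.id := by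
  refine (IsLocalRing.split_injective_iff_lTensor_residueField_injective K.subtype).2
    ((injective_iff_map_eq_zero _).2 fun x hx => ?_)
  refine (Module.forall_dual_apply_eq_zero_iff (ResidueField S) x).1 fun Λ => ?_
  let φ : K →ₗ[S] ResidueField S :=
    (Λ.restrictScalars S) ∘ₗ TensorProduct.mk S (ResidueField S) K 1
  obtain ⟨ψ, hψ⟩ := h φ
  let Ψ : ResidueField S ⊗[S] V →ₗ[S] ResidueField S := TensorProduct.lift
    (LinearMap.mk₂ S (fun c v => c * ψ v) (fun a b v => add_mul _ _ _) (fun r a v => smul_mul_assoc _ _ _)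
      (fun a v w => by simp [mul_add]) (fun r a v => by simp [mul_smul_comm]))
  have key : Ψ ∘ₗ K.subtype.lTensor (ResidueField S) = Λ.restrictScalars S := by
    refine TensorProduct.ext' fun c k => ?_
    have h1 : ψ (k : V) = φ k := congr($hψ k)
    change c * ψ (k : V) = Λ (c ⊗ₜ k)
    rw [h1]
    change c * Λ (1 ⊗ₜ k) = _
    rw [← smul_eq_mul, ← map_smul, TensorProduct.smul_tmul', smul_eq_mul, mul_one]
  have := congr($key x)
  rw [LinearMap.comp_apply, hx, map_zero] at this
  exact this.symm

/-- Lifting of cocycles along extensions by modules of finite length gives lifting from the residue field. -/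
theorem surjAt_residue_of_finiteLength {ι : Type} {c : ComplexShape ι} {P : HomologicalComplex (ModuleCat.{u} S) c}
    (hP : ∀ m, Module.Finite S (P.X m) ∧ Module.Flat S (P.X m)) {i j k : ι}
    (h : ∀ (M N : Type u) [AddCommGroup M] [Module S M] [AddCommGroup N] [Module S N] (g : M →ₗ[S] N),
      Function.Surjective g → IsFiniteLength S (LinearMap.ker g) → SurjAt P i j k g) :
    SurjAt P i j k (toResidue S).hom := by
  haveI := fun m => (hP m).1
  haveI := fun m => (hP m).2
  haveI : ∀ m, Module.Free S (P.X m) := fun m => Module.free_of_flat_of_isLocalRing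
  let F : Type u := P.X j
  let d : P.X j →ₗ[S] P.X k := (P.d j k).hom
  let K : Submodule S (Module.Dual S (P.X j)) := LinearMap.range d.dualMap
  have hex : ∀ (M N : Type u) [AddCommGroup M] [Module S M] [AddCommGroup N] [Module S N] (g : M →ₗ[S] N),
      Function.Surjective g → IsFiniteLength S (LinearMap.ker g) → ∀ z, dT P N j k z = 0 →
        ∃ z', dT P M j k z' = 0 ∧ g.lTensor (P.X j) z' = z := by
    intro M N _ _ _ _ g hg hl z hz
    obtain ⟨z', hz', y, hy⟩ := h M N g hg hl z hz
    obtain ⟨y', rfl⟩ := LinearMap.lTensor_surjective (P.X i) hg y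
    refine ⟨z' - dT P M i j y', by rw [map_sub, hz', dT_dT, sub_zero], ?_⟩
    rw [map_sub, ← dT_comm, hy, sub_sub_cancel]
  have hext : ∀ φ : K →ₗ[S] ResidueField S,
      ∃ ψ : Module.Dual S (P.X j) →ₗ[S] ResidueField S, ψ ∘ₗ K.subtype = φ := by
    intro φ
    let R : Submodule S (Module.Dual S (P.X j) × ResidueField S) := LinearMap.range (K.subtype.prod (-φ))
    let M := (Module.Dual S (P.X j) × ResidueField S) ⧸ R
    let g : M →ₗ[S] Module.Dual S (P.X j) ⧸ K := R.liftQ (K.mkQ ∘ₗ LinearMap.fst S _ _) (by
      rintro _ ⟨x, rfl⟩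
      exact (Submodule.Quotient.mk_eq_zero K).2 x.2)
    let inj : ResidueField S →ₗ[S] M := R.mkQ ∘ₗ LinearMap.inr S _ _
    have hinj : Function.Injective inj := (injective_iff_map_eq_zero _).2 fun a ha => by
      obtain ⟨x, hx⟩ := (Submodule.Quotient.mk_eq_zero R).1 ha
      have h1 : x = 0 := Subtype.ext (congrArg Prod.fst hx)
      have h2 := congrArg Prod.snd hx
      rw [h1] at h2
      simpa using h2.symm
    have hker : LinearMap.ker g = LinearMap.range inj := by
      refine le_antisymm (fun m hm => ?_) ?_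
      · obtain ⟨⟨v, a⟩, rfl⟩ := R.mkQ_surjective m
        have hv : v ∈ K := (Submodule.Quotient.mk_eq_zero K).1 hm
        let vK : K := ⟨v, hv⟩
        refine ⟨a + φ vK, (Submodule.Quotient.eq R).2 ⟨-vK, ?_⟩⟩
        refine Prod.ext ?_ ?_
        · change ((-vK : K) : Module.Dual S (P.X j)) = 0 - v
          simp [vK]
        · change (-φ) (-vK) = (a + φ vK) - a
          exact (congrArg Neg.neg (φ.map_neg vK)).trans ((neg_neg _).trans (add_sub_cancel_left _ _).symm)
      · rintro _ ⟨a, rfl⟩
        exact map_zero K.mkQ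
    have hl : IsFiniteLength S (LinearMap.ker g) := by
      haveI : IsSimpleModule S (ResidueField S) :=
        isSimpleModule_iff_quot_maximal.2 ⟨maximalIdeal S, inferInstance, ⟨LinearEquiv.refl _ _⟩⟩
      haveI : IsSimpleModule S (ResidueField S ⧸ (⊥ : Submodule S (ResidueField S))) :=
        IsSimpleModule.congr (Submodule.quotEquivOfEqBot ⊥ rfl)
      rw [hker]
      exact (IsFiniteLength.of_simple_quotient (N := ⊥) IsFiniteLength.of_subsingleton).of_surjective
        inj.surjective_rangeRestrict
    have hgs : Function.Surjective g := fun q => by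
      obtain ⟨v, rfl⟩ := K.mkQ_surjective q
      exact ⟨R.mkQ (v, 0), rfl⟩
    let z := (ev S (P.X j) (Module.Dual S (P.X j) ⧸ K)).symm K.mkQ
    have hz : dT P _ j k z = 0 := (rTensor_eq_zero_iff d z).2 fun v hv => by
      rw [LinearEquiv.apply_symm_apply]
      exact (Submodule.Quotient.mk_eq_zero K).2 hv
    obtain ⟨z', hz', hgz⟩ := hex M _ g hgs hl z hz
    let h' := ev S (P.X j) M z'
    let D : Module.Dual S (P.X j) →ₗ[S] M := R.mkQ ∘ₗ LinearMap.inl S _ _ - h'
    have hD : ∀ v, D v ∈ LinearMap.range inj := fun v => by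
      rw [← hker, LinearMap.mem_ker]
      have := congr(ev S (P.X j) _ $hgz v)
      rw [ev_lTensor, LinearEquiv.apply_symm_apply] at this
      change g (R.mkQ (v, 0) - h' v) = 0
      rw [map_sub, sub_eq_zero]
      exact this.symm
    refine ⟨(LinearEquiv.ofInjective inj hinj).symm.toLinearMap ∘ₗ D.codRestrict _ hD, LinearMap.ext fun v => hinj ?_⟩
    have h0 : h' v = 0 := (rTensor_eq_zero_iff d z').1 hz' v v.2
    refine (congr_arg Subtype.val ((LinearEquiv.ofInjective inj hinj).apply_symm_apply ⟨D v, hD v⟩)).trans ?_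
    change R.mkQ (v.1, 0) - h' v = _
    rw [h0, sub_zero]
    exact (Submodule.Quotient.eq R).2 ⟨v, by ext1 <;> simp⟩
  obtain ⟨r, hr⟩ := exists_retraction K hext
  intro z hz
  let w := ev S (P.X j) (ResidueField S) z
  obtain ⟨w', hw'⟩ := Module.projective_lifting_property (toResidue S).hom w Ideal.Quotient.mk_surjective
  let z' := (ev S (P.X j) S).symm (w' ∘ₗ (LinearMap.id - K.subtype ∘ₗ r))
  refine ⟨z', (rTensor_eq_zero_iff d z').2 fun v hv => ?_, ?_⟩
  · rw [LinearEquiv.apply_symm_apply]
    have h1 : r v = ⟨v, hv⟩ := congr($hr ⟨v, hv⟩)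
    simp [h1]
  · suffices h0 : (toResidue S).hom.lTensor (P.X j) z' = z from h0 ▸ ⟨0, by rw [map_zero, sub_self]⟩
    refine (ev S (P.X j) (ResidueField S)).injective (LinearMap.ext fun v => ?_)
    rw [ev_lTensor, LinearEquiv.apply_symm_apply]
    change (toResidue S).hom (w' (v - (r v : Module.Dual S (P.X j)))) = w v
    rw [map_sub, map_sub]
    have h1 : (toResidue S).hom (w' (r v : Module.Dual S (P.X j))) = 0 :=
      (congr($hw' (r v : Module.Dual S (P.X j)))).trans ((rTensor_eq_zero_iff d z).1 hz _ (r v).2)
    rw [h1, sub_zero]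
    exact congr($hw' v)

end Groth.Agent.W7Cube
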