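import Groth.Agent.W7Cech.BC0Epi
import Groth.Agent.FlatCx.Length
import Groth.Agent.W7Cube.Split

/-!
Right exactness of `T⁰` from a natural map out of `T¹` into a left exact functor, injective on the residue field.
-/

set_option autoImplicit false
set_option backward.isDefEq.respectTransparency false
set_option backward.isDefEq.respectTransparency.types false
set_option linter.style.haveILetI false

universe u

open CategoryTheory CategoryTheory.Limits TensorProduct IsLocalRing
open Groth.Agent.FlatCx

noncomputable section

namespace Groth.Agent.W7Cube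

/-- Injectivity in the next degree on a kernel gives surjectivity. -/
theorem surjAt_of_injAt_ker {A : Type u} [CommRing A] {ι : Type} {c : ComplexShape ι}
    {P : HomologicalComplex (ModuleCat.{u} A) c} (hP : ∀ m, Module.Flat A (P.X m)) {i j k l : ι}
    {M N : Type u} [AddCommGroup M] [Module A M] [AddCommGroup N] [Module A N] (g : M →ₗ[A] N)
    (hg : Function.Surjective g) (h : InjAt P j k l (LinearMap.ker g).subtype) : SurjAt P i j k g := by
  intro z hz
  let f := (LinearMap.ker g).subtype
  have hex : Function.Exact f g := LinearMap.exact_subtype_ker_map g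
  obtain ⟨y, rfl⟩ := LinearMap.lTensor_surjective (P.X j) hg z
  rw [dT_comm] at hz
  obtain ⟨x, hx⟩ := ((lTensor_exact (P.X k) hex hg) _).1 hz
  haveI := hP l
  have hx0 : dT P _ k l x = 0 := by
    apply Module.Flat.lTensor_preserves_injective_linearMap (M := P.X l) f
      (Submodule.injective_subtype _)
    rw [← dT_comm, hx, dT_dT, map_zero]
  obtain ⟨w, hw⟩ := h x hx0 ⟨y, hx.symm⟩
  refine ⟨y - f.lTensor (P.X j) w, ?_, ⟨0, ?_⟩⟩
  · rw [map_sub, dT_comm, hw, hx, sub_self]
  · rw [map_zero, map_sub, ← LinearMap.comp_apply (g.lTensor _), ← LinearMap.lTensor_comp,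
      hex.linearMap_comp_eq_zero, LinearMap.lTensor_zero]
    simp

section LocalRing

variable {A S : Type u} [CommRing A] [CommRing S] [IsLocalRing S] (φ : A →+* S)
  (P : CochainComplex (ModuleCat.{u} S) ℤ) (p : ℤ) {H : ModuleCat.{u} S ⥤ ModuleCat.{u} A}
  (η : CohIII.TFun P p ⋙ ModuleCat.restrictScalars φ ⟶ H)

/-- Injectivity propagates to modules of finite length. -/
theorem injective_app_of_residue (hP : ∀ m, Module.Flat S (P.X m)) [H.PreservesMonomorphisms]
    (hκ : Function.Injective (η.app (ModuleCat.of S (ResidueField S))).hom) {X : Type u} [AddCommGroup X]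
    [Module S X] (h : IsFiniteLength S X) : Function.Injective (η.app (ModuleCat.of S X)).hom := by
  induction h with
  | @of_subsingleton M _ _ _ =>
    have hs : Subsingleton (CohIII.T P p (ModuleCat.of S M)) := subsingleton_of_forall_eq 0 fun a => by
      obtain ⟨z, rfl⟩ := cls_surjective P p _ a
      rw [cls_eq_zero_iff]
      have : Subsingleton (P.X p ⊗[S] M) := inferInstance
      exact ⟨0, this.elim _ _⟩
    exact fun a b _ => hs.elim a b
  | @of_simple_quotient M _ _ N _ _ ih =>
    obtain ⟨I, hI, ⟨e⟩⟩ := isSimpleModule_iff_quot_maximal.1 (inferInstance : IsSimpleModule S (M ⧸ N))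
    obtain rfl : I = maximalIdeal S := IsLocalRing.eq_maximalIdeal hI
    let f : ModuleCat.of S N ⟶ ModuleCat.of S M := ModuleCat.ofHom N.subtype
    let g : ModuleCat.of S M ⟶ ModuleCat.of S (ResidueField S) :=
      ModuleCat.ofHom (X := M) (Y := ResidueField S) (e.toLinearMap ∘ₗ N.mkQ)
    have hg : Function.Surjective g.hom := e.surjective.comp (Submodule.mkQ_surjective _)
    have hex : Function.Exact f.hom g.hom := by
      rw [LinearMap.exact_iff]
      show LinearMap.ker (e.toLinearMap ∘ₗ N.mkQ) = LinearMap.range N.subtype
      rw [LinearMap.ker_comp, LinearEquiv.ker, Submodule.comap_bot, Submodule.ker_mkQ, Submodule.range_subtype]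
    have hT := Tmap_exact P p hP f g N.injective_subtype hex hg
    haveI : Mono f := (ModuleCat.mono_iff_injective _).2 N.injective_subtype
    have hm : Function.Injective (H.map f).hom := (ModuleCat.mono_iff_injective _).1 inferInstance
    refine (injective_iff_map_eq_zero _).2 fun x hx => ?_
    have h1 : (η.app (ModuleCat.of S (ResidueField S))).hom (((CohIII.TFun P p).map g).hom x) = 0 := by
      refine (congr(($(η.naturality g)).hom x)).trans ?_
      change (H.map g).hom ((η.app (ModuleCat.of S M)).hom x) = 0
      rw [hx, map_zero]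
    have h2 : ((CohIII.TFun P p).map g).hom x = 0 := hκ (h1.trans (map_zero _).symm)
    obtain ⟨y, rfl⟩ := (hT x).1 h2
    have h3 : (H.map f).hom ((η.app (ModuleCat.of S N)).hom y) = 0 :=
      (congr(($(η.naturality f)).hom y)).symm.trans hx
    have h4 : y = 0 := ih ((hm (h3.trans (map_zero _).symm)).trans (map_zero _).symm)
    rw [h4]
    exact map_zero (Tmap P p f)

/-- Right exactness in the previous degree. -/
theorem surjective_residue_of_injective (hP : ∀ m, Module.Finite S (P.X m) ∧ Module.Flat S (P.X m))
    [H.PreservesMonomorphisms] {q : ℤ} (hq : q + 1 = p)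
    (hκ : Function.Injective (η.app (ModuleCat.of S (ResidueField S))).hom) :
    Function.Surjective ((CohIII.TFun P q).map (toResidue S)).hom := by
  subst hq
  have hn : (ComplexShape.up ℤ).next q = q + 1 := CochainComplex.next ℤ q
  have hp : (ComplexShape.up ℤ).prev (q + 1) = q := by simp
  refine (TFun_map_surjective_iff rfl hn _).2 (surjAt_residue_of_finiteLength hP fun M N _ _ _ _ g hg hfl => ?_)
  refine surjAt_of_injAt_ker (l := (ComplexShape.up ℤ).next (q + 1)) (fun m => (hP m).2) g hg ?_
  have hK := injective_app_of_residue φ P (q + 1) η (fun m => (hP m).2) hκ hfl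
  let f := ModuleCat.ofHom (LinearMap.ker g).subtype
  haveI : Mono f := (ModuleCat.mono_iff_injective _).2 (LinearMap.ker g).injective_subtype
  have hm : Function.Injective (H.map f).hom := (ModuleCat.mono_iff_injective _).1 inferInstance
  refine (TFun_map_injective_iff hp rfl f).1 ?_
  intro a b hab
  refine hK (hm ?_)
  refine (congr(($(η.naturality f)).hom a)).symm.trans (Eq.trans ?_ (congr(($(η.naturality f)).hom b)))
  exact congrArg (η.app _).hom hab

end LocalRing

variable {A : Type u} [CommRing A]

/-- The residue field values of `T⁰` are generated when `T¹` maps naturally to a left exact functor, injectively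
on the residue field. -/
theorem gen_of_natTrans (L : CochainComplex (ModuleCat.{u} A) ℤ)
    (hL : ∀ i, Module.Finite A (L.X i) ∧ Module.Free A (L.X i)) (x : PrimeSpectrum A)
    {G : ModuleCat.{u} A ⥤ ModuleCat.{u} A} [G.PreservesMonomorphisms] (η : CohIII.TFun L 1 ⟶ G)
    (hκ : Function.Injective (η.app (ModuleCat.of A x.asIdeal.ResidueField)).hom) :
    x ∈ Module.freeLocus A (Opc L 0 ((ComplexShape.up ℤ).next 0)) := by
  have hP := W7Cech.finiteFlatX L hL
  let S := Localization.AtPrime x.asIdeal
  let φS := algebraMap A S
  let P := CohIII.bcCx φS L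
  have hP' : ∀ m, Module.Finite S (P.X m) ∧ Module.Flat S (P.X m) := fun m => by
    refine ⟨?_, flat_X_bc S L (fun i => (hP i).2) m⟩
    haveI := (hP m).1
    exact W7Cech.finite_X_bc L m
  rw [← preservesEpi_localization_iff L hP 0 (W7Cech.up_prev_next 0),
    preservesEpi_iff_surjective_residue hP' (i := (ComplexShape.up ℤ).prev 0) rfl rfl (W7Cech.up_prev_next 0) rfl]
  obtain ⟨ν⟩ := W7Cech.nonempty_TFun_bcCx S φS L 1
  let Res := ModuleCat.restrictScalars φS
  let η' : CohIII.TFun P 1 ⋙ Res ⟶ Res ⋙ G := ν.inv ≫ Functor.whiskerLeft Res η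
  let rκ : Res.obj (ModuleCat.of S (IsLocalRing.ResidueField S)) ≅ ModuleCat.of A x.asIdeal.ResidueField :=
    { hom := ConcreteCategory.ofHom (C := ModuleCat.{u} A)
        { toFun := fun x => x
          map_add' := fun _ _ => rfl
          map_smul' := fun a b => IsScalarTower.algebraMap_smul S a (show x.asIdeal.ResidueField from b) }
      inv := ConcreteCategory.ofHom (C := ModuleCat.{u} A)
        { toFun := fun x => x
          map_add' := fun _ _ => rfl
          map_smul' := fun a b => (IsScalarTower.algebraMap_smul S a (show x.asIdeal.ResidueField from b)).symm }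
      hom_inv_id := rfl
      inv_hom_id := rfl }
  haveI : (Res ⋙ G).PreservesMonomorphisms := inferInstance
  refine surjective_residue_of_injective φS P 1 η' hP' (by omega) ?_
  have hi : Function.Injective (η.app (Res.obj (ModuleCat.of S (IsLocalRing.ResidueField S)))).hom := by
    intro a b hab
    let T := (CohIII.TFun L 1).mapIso rκ
    refine T.toLinearEquiv.injective (hκ ?_)
    refine (congr(($(η.naturality rκ.hom)).hom a)).trans (Eq.trans ?_ (congr(($(η.naturality rκ.hom)).hom b)).symm)
    exact congrArg (G.map rκ.hom).hom hab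
  exact hi.comp (ν.app _).toLinearEquiv.symm.injective

end Groth.Agent.W7Cube
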