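import Mathlib.LinearAlgebra.TensorProduct.RightExactness
import Mathlib.LinearAlgebra.FreeModule.Basic
import Mathlib.LinearAlgebra.Dimension.DivisionRing
import Mathlib.RingTheory.Flat.Basic

/-!
A degree one class of a diagonal product of two cosimplicial vector spaces killed by both augmentations is zero.
-/

set_option autoImplicit false

universe u

open TensorProduct LinearMap

namespace Groth.Agent.W7Cube

variable {k : Type u} [Field k] {X₀ X₁ Y₀ Y₁ : Type u} [AddCommGroup X₀] [Module k X₀] [AddCommGroup X₁]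
  [Module k X₁] [AddCommGroup Y₀] [Module k Y₀] [AddCommGroup Y₁] [Module k Y₁]

/-- If the cycles in degree zero of one factor are the constants, the cycles of the product are its constants. -/
lemma exists_of_lTensor_eq_zero {M : Type u} [AddCommGroup M] [Module k M] (d : Y₀ →ₗ[k] Y₁) (uY : Y₀)
    (hd : ∀ y, d y = 0 → ∃ c : k, y = c • uY) (v : M ⊗[k] Y₀) (hv : d.lTensor M v = 0) :
    ∃ g : M, v = g ⊗ₜ uY := by
  obtain ⟨w, rfl⟩ := ((Module.Flat.lTensor_exact M (exact_subtype_ker_map d)) v).1 hv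
  induction w with
  | zero => exact ⟨0, by simp⟩
  | tmul m y =>
    obtain ⟨c, hc⟩ := hd y.1 y.2
    exact ⟨c • m, by rw [lTensor_tmul, smul_tmul, Submodule.subtype_apply, hc]⟩
  | add a b ha hb =>
    obtain ⟨g, hg⟩ := ha (by
      rw [← comp_apply, ← lTensor_comp, (exact_subtype_ker_map d).linearMap_comp_eq_zero, lTensor_zero]; rfl)
    obtain ⟨g', hg'⟩ := hb (by
      rw [← comp_apply, ← lTensor_comp, (exact_subtype_ker_map d).linearMap_comp_eq_zero, lTensor_zero]; rfl)
    exact ⟨g + g', by rw [map_add, hg, hg', add_tmul]⟩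

lemma map_sub_left {M N P Q : Type u} [AddCommGroup M] [Module k M] [AddCommGroup N] [Module k N] [AddCommGroup P]
    [Module k P] [AddCommGroup Q] [Module k Q] (f f' : M →ₗ[k] P) (g : N →ₗ[k] Q) :
    TensorProduct.map (f - f') g = TensorProduct.map f g - TensorProduct.map f' g :=
  TensorProduct.ext' fun a b => by simp [sub_tmul]

lemma map_sub_right {M N P Q : Type u} [AddCommGroup M] [Module k M] [AddCommGroup N] [Module k N] [AddCommGroup P]
    [Module k P] [AddCommGroup Q] [Module k Q] (f : M →ₗ[k] P) (g g' : N →ₗ[k] Q) :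
    TensorProduct.map f (g - g') = TensorProduct.map f g - TensorProduct.map f g' :=
  TensorProduct.ext' fun a b => by simp [tmul_sub]

/-- The vanishing criterion. -/
theorem kunneth_one (A B : X₀ →ₗ[k] X₁) (A' B' : Y₀ →ₗ[k] Y₁) (sX : X₁ →ₗ[k] X₀) (sY : Y₁ →ₗ[k] Y₀)
    (uX : X₀) (uY : Y₀) (εX : X₀ →ₗ[k] k) (εY : Y₀ →ₗ[k] k)
    (hX : ∀ x, (A - B) x = 0 → ∃ c : k, x = c • uX) (hY : ∀ y, (A' - B') y = 0 → ∃ c : k, y = c • uY)
    (huY0 : (A' - B') uY = 0) (hεX : εX uX = 1) (hεY : εY uY = 1)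
    (c : X₁ ⊗[k] Y₁)
    (h₁ : c = TensorProduct.map LinearMap.id (A' ∘ₗ sY) c + TensorProduct.map (B ∘ₗ sX) LinearMap.id c)
    (h₂ : c = TensorProduct.map (A ∘ₗ sX) LinearMap.id c + TensorProduct.map LinearMap.id (B' ∘ₗ sY) c)
    (hsX : ∃ β : Y₀, TensorProduct.lid k Y₁ ((εX ∘ₗ sX).rTensor Y₁ c) = (A' - B') β)
    (hsY : ∃ β : X₀, TensorProduct.rid k X₁ ((εY ∘ₗ sY).lTensor X₁ c) = (A - B) β) :
    ∃ α : X₀ ⊗[k] Y₀, c = TensorProduct.map A A' α - TensorProduct.map B B' α := by
  let d := A - B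
  let d' := A' - B'
  let h := sX.rTensor Y₁ c
  let v := sY.lTensor X₁ c
  have hhv : d'.lTensor X₁ v = d.rTensor Y₁ h := by
    have e := h₁.symm.trans h₂
    change TensorProduct.map LinearMap.id d' (TensorProduct.map LinearMap.id sY c) =
      TensorProduct.map d LinearMap.id (TensorProduct.map sX LinearMap.id c)
    rw [← comp_apply, ← TensorProduct.map_comp, ← comp_apply (TensorProduct.map d LinearMap.id),
      ← TensorProduct.map_comp]
    simp only [d, d', LinearMap.sub_comp, LinearMap.id_comp, map_sub_left,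
      map_sub_right, LinearMap.sub_apply]
    rw [sub_eq_sub_iff_add_eq_add]
    exact e
  -- the first slice
  let q := (LinearMap.range d').mkQ
  have hq0 : d.rTensor (Y₁ ⧸ LinearMap.range d') (q.lTensor X₀ h) = 0 := by
    rw [← comp_apply, rTensor_comp_lTensor, ← lTensor_comp_rTensor, comp_apply, ← hhv, ← comp_apply,
      ← lTensor_comp, (exact_map_mkQ_range d').linearMap_comp_eq_zero, lTensor_zero]
    rfl
  obtain ⟨r, hr⟩ := exists_of_lTensor_eq_zero (M := Y₁ ⧸ LinearMap.range d') d uX hX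
    (TensorProduct.comm k _ _ (q.lTensor X₀ h)) (by
      have e : ∀ w, d.lTensor (Y₁ ⧸ LinearMap.range d') (TensorProduct.comm k _ _ w) =
          TensorProduct.comm k _ _ (d.rTensor (Y₁ ⧸ LinearMap.range d') w) := fun w => by
        induction w with
        | zero => simp
        | tmul a b => simp
        | add a b ha hb => simp only [map_add, ha, hb]
      rw [e, hq0, map_zero])
  have hr0 : r = 0 := by
    obtain ⟨β, hβ⟩ := hsX
    have e : ∀ w : X₀ ⊗[k] Y₁, TensorProduct.lid k _ (εX.rTensor (Y₁ ⧸ LinearMap.range d') (q.lTensor X₀ w)) =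
        q (TensorProduct.lid k Y₁ (εX.rTensor Y₁ w)) := fun w => by
      induction w with
      | zero => simp
      | tmul a b => simp
      | add a b ha hb => simp only [map_add, ha, hb]
    have e2 : q.lTensor X₀ h = uX ⊗ₜ r := (TensorProduct.comm k _ _).injective (by rw [hr]; rfl)
    have e3 := e h
    rw [e2, rTensor_tmul, TensorProduct.lid_tmul, hεX, one_smul] at e3
    rw [e3, show εX.rTensor Y₁ h = (εX ∘ₗ sX).rTensor Y₁ c by rw [rTensor_comp]; rfl, hβ]
    exact (Submodule.Quotient.mk_eq_zero _).2 ⟨β, rfl⟩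
  have hq : q.lTensor X₀ h = 0 := (TensorProduct.comm k _ _).injective (by rw [hr, hr0]; simp)
  obtain ⟨α, hα⟩ := ((Module.Flat.lTensor_exact X₀ (exact_map_mkQ_range d')) h).1 hq
  -- the second slice
  have hg0 : d'.lTensor X₁ (v - d.rTensor Y₀ α) = 0 := by
    rw [map_sub, hhv, ← hα, sub_eq_zero, ← comp_apply, rTensor_comp_lTensor, ← lTensor_comp_rTensor, comp_apply]
  obtain ⟨g, hg⟩ := exists_of_lTensor_eq_zero d' uY hY _ hg0
  obtain ⟨β, hβ⟩ := hsY
  let γ := β - TensorProduct.rid k X₀ (εY.lTensor X₀ α)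
  have hgd : g = d γ := by
    have e : ∀ w : X₀ ⊗[k] Y₀, TensorProduct.rid k X₁ (εY.lTensor X₁ (d.rTensor Y₀ w)) =
        d (TensorProduct.rid k X₀ (εY.lTensor X₀ w)) := fun w => by
      induction w with
      | zero => simp
      | tmul a b => simp
      | add a b ha hb => simp only [map_add, ha, hb]
    have e2 := congrArg (fun w => TensorProduct.rid k X₁ (εY.lTensor X₁ w)) hg
    simp only [map_sub, lTensor_tmul, TensorProduct.rid_tmul, hεY, one_smul, e] at e2
    rw [← e2, map_sub d, show εY.lTensor X₁ v = (εY ∘ₗ sY).lTensor X₁ c by rw [lTensor_comp]; rfl, hβ]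
  refine ⟨α + γ ⊗ₜ uY, ?_⟩
  have hv : v = d.rTensor Y₀ (α + γ ⊗ₜ uY) := by
    rw [map_add, rTensor_tmul, ← hgd, ← hg]; abel
  have hh : h = d'.lTensor X₀ (α + γ ⊗ₜ uY) := by
    rw [map_add, hα, lTensor_tmul, show d' uY = 0 from huY0, tmul_zero, add_zero]
  have f1 : TensorProduct.map LinearMap.id (A' ∘ₗ sY) c = A'.lTensor X₁ v := by
    change _ = A'.lTensor X₁ (sY.lTensor X₁ c)
    rw [← comp_apply, ← lTensor_comp]; rfl
  have f2 : TensorProduct.map (B ∘ₗ sX) LinearMap.id c = B.rTensor Y₁ h := by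
    change _ = B.rTensor Y₁ (sX.rTensor Y₁ c)
    rw [← comp_apply, ← rTensor_comp]; rfl
  rw [f1, f2, hv, hh] at h₁
  refine h₁.trans ?_
  rw [← comp_apply, lTensor_comp_rTensor, ← comp_apply (B.rTensor Y₁), rTensor_comp_lTensor]
  simp only [d, d', map_sub_left, map_sub_right, LinearMap.sub_apply]
  abel

end Groth.Agent.W7Cube
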