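import Groth.Agent.W7Cube.Product
import Groth.Agent.W7Cube.Kunneth

/-!
Over a field: a first cohomology class of functions on a product killed by both slices vanishes.
-/

set_option autoImplicit false
set_option backward.isDefEq.respectTransparency false
set_option backward.isDefEq.respectTransparency.types false
set_option linter.style.haveILetI false
set_option maxHeartbeats 1000000

universe u

open CategoryTheory CategoryTheory.Limits AlgebraicGeometry TopologicalSpace Opposite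
open Groth.Agent.SiteCoh Groth.Agent.ProjCech Groth.Agent.W7Cech
open Groth.Agent.QC (res resO res_res res_self res_smul app_res resO_resO)
open scoped TensorProduct

noncomputable section

namespace Groth.Agent.W7Cube

/-- Compatibility of a morphism over the base with the identity of the base ring. -/
lemma over_id {k : Type u} [CommRing k] {X P : Scheme.{u}} [X.Over (Spec (CommRingCat.of k))]
    [P.Over (Spec (CommRingCat.of k))] {p : P ⟶ X}
    (h : p ≫ (X ↘ Spec (CommRingCat.of k)) = P ↘ Spec (CommRingCat.of k)) :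
    p ≫ (X ↘ Spec (CommRingCat.of k)) =
      (P ↘ Spec (CommRingCat.of k)) ≫ Spec.map (CommRingCat.ofHom (RingHom.id k)) := by
  rw [h, CommRingCat.ofHom_id, Spec.map_id, Category.comp_id]

section Point

variable (k : Type u) [Field k] {X : Scheme.{u}} [X.Over (Spec (CommRingCat.of k))] {ι : Type u}
  (U : ι → X.Opens) (x₀ : Spec (CommRingCat.of k) ⟶ X)
  (hx₀ : x₀ ≫ (X ↘ Spec (CommRingCat.of k)) = 𝟙 _)

include hx₀ in
lemma appLE_secRing_point {W : X.Opens} (h : ⊤ ≤ x₀ ⁻¹ᵁ W) (r : k) :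
    (x₀.appLE W ⊤ h).hom (secRing k W r) = (Scheme.ΓSpecIso (CommRingCat.of k)).inv.hom r := by
  let π := X ↘ Spec (CommRingCat.of k)
  have h1 : X.presheaf.map (homOfLE (le_top : W ≤ ⊤)).op ≫ x₀.appLE W ⊤ h = x₀.appTop := by
    rw [Scheme.Hom.map_appLE, Scheme.Hom.appTop, Scheme.Hom.app_eq_appLE]
    rfl
  have h2 : π.appTop ≫ x₀.appTop = 𝟙 _ := by rw [← Scheme.Hom.comp_appTop, hx₀, Scheme.Hom.id_appTop]
  exact (congr(($h1).hom (π.appTop.hom ((Scheme.ΓSpecIso (CommRingCat.of k)).inv.hom r)))).trans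
    congr(($h2).hom ((Scheme.ΓSpecIso (CommRingCat.of k)).inv.hom r))

/-- The value at a rational point. -/
def evalPoint {n : ℕ} (a : Fin (n + 1) → ι) (h : ⊤ ≤ x₀ ⁻¹ᵁ tupleProd U a)
    (hx : x₀ ≫ (X ↘ Spec (CommRingCat.of k)) = 𝟙 _) :
    (CoX k U (Coh.structureModule X) n : Type u) →ₗ[k] k where
  toFun x := (Scheme.ΓSpecIso (CommRingCat.of k)).hom.hom
    ((x₀.appLE (tupleProd U a) ⊤ h).hom (show Γ(X, tupleProd U a) from x a))
  map_add' x y := by
    change (Scheme.ΓSpecIso (CommRingCat.of k)).hom.hom ((x₀.appLE _ ⊤ h).hom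
      ((show Γ(X, tupleProd U a) from x a) + (show Γ(X, tupleProd U a) from y a))) = _
    rw [map_add, map_add]
  map_smul' r x := by
    change (Scheme.ΓSpecIso (CommRingCat.of k)).hom.hom ((x₀.appLE _ ⊤ h).hom
      (secRing k _ r * (show Γ(X, tupleProd U a) from x a))) = r * _
    rw [map_mul, map_mul, appLE_secRing_point k x₀ hx]
    exact congrArg (· * _) congr(($((Scheme.ΓSpecIso (CommRingCat.of k)).inv_hom_id)).hom r)

/-- The constant cochain. -/
def oneCo : (CoX k U (Coh.structureModule X) 0 : Type u) := fun a => ((1 : Γ(X, tupleProd U a)) :)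

lemma rg_oneCo {n : ℕ} (σ : Fin 1 → Fin (n + 1)) (a : Fin (n + 1) → ι) :
    (show Γ(X, tupleProd U a) from rg U k (m := 0) σ (oneCo k U) a) = 1 :=
  map_one (resO X (tupleProd_le_comp U σ a))

include hx₀ in
lemma d_oneCo : (rg U k (F := Coh.structureModule X) (m := 0) (n := 1) ![0] -
    rg U k (F := Coh.structureModule X) (m := 0) (n := 1) ![1]) (oneCo k U) = 0 := by
  rw [LinearMap.sub_apply, sub_eq_zero]
  exact funext fun a => (rg_oneCo k U ![0] a).trans (rg_oneCo k U ![1] a).symm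

/-- Cycles in degree zero are constants. -/
lemma exists_const (hcov : iSup U = ⊤) (hbij : Function.Bijective (X ↘ Spec (CommRingCat.of k)).appTop.hom)
    (x : (CoX k U (Coh.structureModule X) 0 : Type u))
    (hx : (rg U k (F := Coh.structureModule X) (m := 0) (n := 1) ![0] -
      rg U k (F := Coh.structureModule X) (m := 0) (n := 1) ![1]) x = 0) :
    ∃ c : k, x = c • oneCo k U := by
  rw [LinearMap.sub_apply, sub_eq_zero] at hx
  have hcompat : TopCat.Presheaf.IsCompatible X.sheaf.1 (fun a : Fin 1 → ι => tupleProd U a)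
      (fun a => (show Γ(X, tupleProd U a) from x a)) := by
    intro a a'
    let b : Fin 2 → ι := ![a 0, a' 0]
    have hb0 : b ∘ ![0] = a := by ext r; fin_cases r; rfl
    have hb1 : b ∘ ![1] = a' := by ext r; fin_cases r; rfl
    have hle : tupleProd U a ⊓ tupleProd U a' ≤ tupleProd U b := le_tupleProd U b fun r => by
      fin_cases r
      · exact inf_le_left.trans (tupleProd_le U a 0)
      · exact inf_le_right.trans (tupleProd_le U a' 0)
    have key : ∀ (c d : Fin 1 → ι) (e : c = d) (h1 : tupleProd U b ≤ tupleProd U c)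
        (h2 : tupleProd U a ⊓ tupleProd U a' ≤ tupleProd U d),
        resO X hle (resO X h1 (show Γ(X, tupleProd U c) from x c)) =
          resO X h2 (show Γ(X, tupleProd U d) from x d) := by
      rintro c d rfl h1 h2
      exact resO_resO hle h1 _
    exact ((key _ _ hb0 (tupleProd_le_comp U ![0] b) inf_le_left).symm.trans
      (congrArg (resO X hle) (congrFun hx b))).trans (key _ _ hb1 (tupleProd_le_comp U ![1] b) inf_le_right)
  have htop : (⊤ : X.Opens) ≤ ⨆ a : Fin 1 → ι, tupleProd U a := fun z _ => by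
    obtain ⟨i, hi⟩ := Opens.mem_iSup.1 (show z ∈ iSup U from hcov ▸ trivial)
    exact Opens.mem_iSup.2 ⟨fun _ => i, le_tupleProd U (n := 0) (fun _ => i) (P := U i) (fun _ => le_rfl) hi⟩
  obtain ⟨G, hG, -⟩ := X.sheaf.existsUnique_gluing' (fun a : Fin 1 → ι => tupleProd U a) ⊤
    (fun a => homOfLE le_top) htop _ hcompat
  obtain ⟨c', hc'⟩ := hbij.2 G
  obtain ⟨c, rfl⟩ := (ConcreteCategory.bijective_of_isIso (Scheme.ΓSpecIso (CommRingCat.of k)).inv).2 c'
  refine ⟨c, funext fun a => ?_⟩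
  refine (hG a).symm.trans ?_
  change resO X le_top G = secRing k _ c * (1 : Γ(X, tupleProd U a))
  rw [← hc', mul_one]
  rfl

end Point

section Slice

variable (k : Type u) [Field k] {X Y P : Scheme.{u}} [X.Over (Spec (CommRingCat.of k))]
  [Y.Over (Spec (CommRingCat.of k))] [P.Over (Spec (CommRingCat.of k))] (p : P ⟶ X) (q : P ⟶ Y)
  {ι ι' : Type u} (U : ι → X.Opens) (V : ι' → Y.Opens) (W : ι × ι' → P.Opens)

/-- Restriction of cochains of a slice to fixed first index. -/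
def fixFst (a : Y ⟶ P) (i₀ : ι) (h : ∀ j, V j ≤ a ⁻¹ᵁ W (i₀, j)) (n : ℕ) :
    (CoX k (pre a W) (Coh.structureModule Y) n : Type u) →ₗ[k]
      (CoX k V (Coh.structureModule Y) n : Type u) where
  toFun x c := (resO Y (le_tupleProd (pre a W) (fun r => (i₀, c r)) fun r => (tupleProd_le V c r).trans (h (c r)))
    (show Γ(Y, tupleProd (pre a W) fun r => (i₀, c r)) from x fun r => (i₀, c r)) :)
  map_add' x y := funext fun c => map_add (resO Y (le_tupleProd (pre a W) (fun r => (i₀, c r))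
    fun r => (tupleProd_le V c r).trans (h (c r)))) _ _
  map_smul' r x := funext fun c => by
    change resO Y _ (HMul.hMul (α := Γ(Y, tupleProd (pre a W) fun r => (i₀, c r)))
      (β := Γ(Y, tupleProd (pre a W) fun r => (i₀, c r))) (secRing k _ r) _) =
        HMul.hMul (α := Γ(Y, tupleProd V c)) (β := Γ(Y, tupleProd V c)) (secRing k _ r) _
    rw [map_mul, resO_secRing]

lemma fixFst_rg (a : Y ⟶ P) (i₀ : ι) (h : ∀ j, V j ≤ a ⁻¹ᵁ W (i₀, j)) {m n : ℕ}
    (σ : Fin (m + 1) → Fin (n + 1)) (x : (CoX k (pre a W) (Coh.structureModule Y) m : Type u)) :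
    fixFst k V W a i₀ h n (rg (pre a W) k σ x) = rg V k σ (fixFst k V W a i₀ h m x) := funext fun c => by
  have key : ∀ {A B C D : Y.Opens} (h1 : A ≤ B) (h2 : B ≤ D) (h3 : A ≤ C) (h4 : C ≤ D) (t : Γ(Y, D)),
      resO Y h1 (resO Y h2 t) = resO Y h3 (resO Y h4 t) := fun h1 h2 h3 h4 t => by rw [resO_resO, resO_resO]
  exact key _ _ _ _ _

/-- Restriction of cochains of a slice to fixed second index. -/
def fixSnd (b : X ⟶ P) (j₀ : ι') (h : ∀ i, U i ≤ b ⁻¹ᵁ W (i, j₀)) (n : ℕ) :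
    (CoX k (pre b W) (Coh.structureModule X) n : Type u) →ₗ[k]
      (CoX k U (Coh.structureModule X) n : Type u) where
  toFun x c := (resO X (le_tupleProd (pre b W) (fun r => (c r, j₀)) fun r => (tupleProd_le U c r).trans (h (c r)))
    (show Γ(X, tupleProd (pre b W) fun r => (c r, j₀)) from x fun r => (c r, j₀)) :)
  map_add' x y := funext fun c => map_add (resO X (le_tupleProd (pre b W) (fun r => (c r, j₀))
    fun r => (tupleProd_le U c r).trans (h (c r)))) _ _
  map_smul' r x := funext fun c => by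
    change resO X _ (HMul.hMul (α := Γ(X, tupleProd (pre b W) fun r => (c r, j₀)))
      (β := Γ(X, tupleProd (pre b W) fun r => (c r, j₀))) (secRing k _ r) _) =
        HMul.hMul (α := Γ(X, tupleProd U c)) (β := Γ(X, tupleProd U c)) (secRing k _ r) _
    rw [map_mul, resO_secRing]

lemma fixSnd_rg (b : X ⟶ P) (j₀ : ι') (h : ∀ i, U i ≤ b ⁻¹ᵁ W (i, j₀)) {m n : ℕ}
    (σ : Fin (m + 1) → Fin (n + 1)) (x : (CoX k (pre b W) (Coh.structureModule X) m : Type u)) :
    fixSnd k U W b j₀ h n (rg (pre b W) k σ x) = rg U k σ (fixSnd k U W b j₀ h m x) := funext fun c => by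
  have key : ∀ {A B C D : X.Opens} (h1 : A ≤ B) (h2 : B ≤ D) (h3 : A ≤ C) (h4 : C ≤ D) (t : Γ(X, D)),
      resO X h1 (resO X h2 t) = resO X h3 (resO X h4 t) := fun h1 h2 h3 h4 t => by rw [resO_resO, resO_resO]
  exact key _ _ _ _ _

end Slice

variable (k : Type u) [Field k] {X Y P : Scheme.{u}} [X.Over (Spec (CommRingCat.of k))]
  [Y.Over (Spec (CommRingCat.of k))] [P.Over (Spec (CommRingCat.of k))] (p : P ⟶ X) (q : P ⟶ Y)
  {ι ι' : Type u} (U : ι → X.Opens) (V : ι' → Y.Opens)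

set_option maxHeartbeats 2000000 in
/-- The slice at a rational point, in the tensor description. -/
theorem exists_slice_fst (hp : p ≫ (X ↘ Spec (CommRingCat.of k)) = P ↘ Spec (CommRingCat.of k))
    (hq : q ≫ (Y ↘ Spec (CommRingCat.of k)) = P ↘ Spec (CommRingCat.of k))
    (x₀ : Spec (CommRingCat.of k) ⟶ X) (hx₀ : x₀ ≫ (X ↘ Spec (CommRingCat.of k)) = 𝟙 _)
    (a : Y ⟶ P) (ha : a ≫ q = 𝟙 _) (ha' : a ≫ p = (Y ↘ Spec (CommRingCat.of k)) ≫ x₀)
    (wa : a ≫ (P ↘ Spec (CommRingCat.of k)) =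
      (Y ↘ Spec (CommRingCat.of k)) ≫ Spec.map (CommRingCat.ofHom (RingHom.id k)))
    (i₀ : ι) (hi₀ : ⊤ ≤ x₀ ⁻¹ᵁ U i₀) :
    ∃ (h₀ : ⊤ ≤ x₀ ⁻¹ᵁ tupleProd U (fun _ : Fin 1 => i₀))
      (hV : ∀ j, V j ≤ a ⁻¹ᵁ prodCover p q U V (i₀, j)),
      ∀ z, fixFst k V (prodCover p q U V) a i₀ hV 1
        (coX a (prodCover p q U V) (toPush a) wa 1 (theta k p q U V (over_id hp) (over_id hq) 1 z)) =
        TensorProduct.lid k _ ((evalPoint k U x₀ (fun _ : Fin 1 => i₀) h₀ hx₀ ∘ₗ
          rg U k (F := Coh.structureModule X) (m := 1) (n := 0) (fun _ => 0)).rTensor _ z) := by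
  have h₀ : ⊤ ≤ x₀ ⁻¹ᵁ tupleProd U (fun _ : Fin 1 => i₀) := fun z hz =>
    le_tupleProd U (n := 0) (fun _ => i₀) (P := U i₀) (fun _ => le_rfl) (hi₀ hz)
  have hV : ∀ j, V j ≤ a ⁻¹ᵁ prodCover p q U V (i₀, j) := fun j y hy => by
    refine ⟨?_, ?_⟩
    · change p (a y) ∈ U i₀
      rw [← Scheme.Hom.comp_apply, ha', Scheme.Hom.comp_apply]
      exact hi₀ (show (Y ↘ Spec (CommRingCat.of k)) y ∈ (⊤ : (Spec (CommRingCat.of k)).Opens) from trivial)
    · change q (a y) ∈ V j
      rw [← Scheme.Hom.comp_apply, ha]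
      exact hy
  refine ⟨h₀, hV, fun z => ?_⟩
  induction z using TensorProduct.induction_on with
  | zero => simp
  | add z z' hz hz' => simp only [map_add, hz, hz']
  | tmul s t =>
    rw [LinearMap.rTensor_tmul, TensorProduct.lid_tmul]
    funext c
    let W := prodCover p q U V
    let c' : Fin 2 → ι × ι' := fun r => (i₀, c r)
    let sv : Γ(X, tupleProd U (Prod.fst ∘ c')) := s (Prod.fst ∘ c')
    let tv : Γ(Y, tupleProd V c) := t c
    let π := Y ↘ Spec (CommRingCat.of k)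
    have hle : tupleProd V c ≤ tupleProd (pre a W) c' :=
      le_tupleProd (pre a W) c' fun r => (tupleProd_le V c r).trans (hV (c r))
    change resO Y hle (resO Y (tupleProd_pre a W c').le ((toPush a).app (tupleProd W c')
      (show Γ(P, tupleProd W c') from theta k p q U V (over_id hp) (over_id hq) 1 (s ⊗ₜ t) c'))) = _
    rw [theta_tmul, toPush_app]
    change resO Y hle (resO Y (tupleProd_pre a W c').le ((a.app (tupleProd W c')).hom (thetaPiece p q U V c' sv tv))) =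
      secRing k (tupleProd V c) (evalPoint k U x₀ (fun _ : Fin 1 => i₀) h₀ hx₀
        (rg U k (F := Coh.structureModule X) (m := 1) (n := 0) (fun _ => 0) s)) * tv
    rw [thetaPiece, map_mul, map_mul, map_mul]
    have hle' : tupleProd V c ≤ a ⁻¹ᵁ tupleProd W c' := hle.trans (tupleProd_pre a W c').le
    have e1 : ∀ {Z : Scheme.{u}} (g : P ⟶ Z) (O : Z.Opens) (h : tupleProd W c' ≤ g ⁻¹ᵁ O)
        (h' : tupleProd V c ≤ (a ≫ g) ⁻¹ᵁ O) (v : Γ(Z, O)),
        resO Y hle (resO Y (tupleProd_pre a W c').le ((a.app (tupleProd W c')).hom ((g.appLE O _ h).hom v))) =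
          ((a ≫ g).appLE O (tupleProd V c) h').hom v := fun g O h h' v => by
      rw [resO_resO]
      exact congr(($(Scheme.Hom.appLE_comp_appLE a g O (tupleProd W c') (tupleProd V c) h hle')).hom v)
    have hpu : ∀ (g : Y ⟶ X) (h : tupleProd V c ≤ g ⁻¹ᵁ tupleProd U (Prod.fst ∘ c')) (e : g = π ≫ x₀)
        (hh : ⊤ ≤ x₀ ⁻¹ᵁ tupleProd U (Prod.fst ∘ c')),
        (g.appLE (tupleProd U (Prod.fst ∘ c')) (tupleProd V c) h).hom sv =
          resO Y le_top (π.appTop.hom ((x₀.appLE _ ⊤ hh).hom sv)) := by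
      rintro g h rfl hh
      refine (congr(($(Scheme.Hom.appLE_comp_appLE π x₀ _ ⊤ (tupleProd V c) hh le_top)).hom sv)).symm.trans ?_
      rfl
    have hqu : ∀ (g : Y ⟶ Y) (h : tupleProd V c ≤ g ⁻¹ᵁ tupleProd V c) (_ : g = 𝟙 _),
        (g.appLE (tupleProd V c) (tupleProd V c) h).hom tv = tv := by
      rintro g h rfl
      rw [Scheme.Hom.appLE, Scheme.Hom.id_app]
      exact congr(($(Y.presheaf.map_id (op (tupleProd V c)))).hom tv)
    rw [e1 p _ _ (by exact hle'.trans (a.preimage_mono ((tupleProd_prodCover p q U V c').le.trans inf_le_left))),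
      e1 q _ _ (by exact hle'.trans (a.preimage_mono ((tupleProd_prodCover p q U V c').le.trans inf_le_right)))]
    refine congrArg₂ (· * ·) ?_ (hqu (a ≫ q) _ ha)
    have hh : ⊤ ≤ x₀ ⁻¹ᵁ tupleProd U (Prod.fst ∘ c') := fun z hz =>
      le_tupleProd U (Prod.fst ∘ c') (P := U i₀) (fun _ => le_rfl) (hi₀ hz)
    refine (hpu (a ≫ p) _ ha' hh).trans ?_
    change resO Y le_top (π.appTop.hom ((x₀.appLE _ ⊤ hh).hom sv)) =
      resO Y le_top (π.appTop.hom ((Scheme.ΓSpecIso (CommRingCat.of k)).inv.hom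
        ((Scheme.ΓSpecIso (CommRingCat.of k)).hom.hom ((x₀.appLE _ ⊤ h₀).hom
          (resO X (tupleProd_le_comp U (m := 1) (n := 0) (fun _ => 0) fun _ => i₀) sv)))))
    refine congrArg (resO Y le_top) (congrArg π.appTop.hom ?_)
    refine Eq.trans ?_ congr(($((Scheme.ΓSpecIso (CommRingCat.of k)).hom_inv_id)).hom _).symm
    exact congr(($(Scheme.Hom.map_appLE x₀ h₀
      (homOfLE (tupleProd_le_comp U (m := 1) (n := 0) (fun _ => 0) fun _ => i₀)).op)).hom sv).symm

set_option maxHeartbeats 2000000 in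
/-- The slice at a rational point of the second factor, in the tensor description. -/
theorem exists_slice_snd (hp : p ≫ (X ↘ Spec (CommRingCat.of k)) = P ↘ Spec (CommRingCat.of k))
    (hq : q ≫ (Y ↘ Spec (CommRingCat.of k)) = P ↘ Spec (CommRingCat.of k))
    (y₀ : Spec (CommRingCat.of k) ⟶ Y) (hy₀ : y₀ ≫ (Y ↘ Spec (CommRingCat.of k)) = 𝟙 _)
    (b : X ⟶ P) (hb : b ≫ p = 𝟙 _) (hb' : b ≫ q = (X ↘ Spec (CommRingCat.of k)) ≫ y₀)
    (wb : b ≫ (P ↘ Spec (CommRingCat.of k)) =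
      (X ↘ Spec (CommRingCat.of k)) ≫ Spec.map (CommRingCat.ofHom (RingHom.id k)))
    (j₀ : ι') (hj₀ : ⊤ ≤ y₀ ⁻¹ᵁ V j₀) :
    ∃ (h₀ : ⊤ ≤ y₀ ⁻¹ᵁ tupleProd V (fun _ : Fin 1 => j₀))
      (hU : ∀ i, U i ≤ b ⁻¹ᵁ prodCover p q U V (i, j₀)),
      ∀ z, fixSnd k U (prodCover p q U V) b j₀ hU 1
        (coX b (prodCover p q U V) (toPush b) wb 1 (theta k p q U V (over_id hp) (over_id hq) 1 z)) =
        TensorProduct.rid k _ ((evalPoint k V y₀ (fun _ : Fin 1 => j₀) h₀ hy₀ ∘ₗ
          rg V k (F := Coh.structureModule Y) (m := 1) (n := 0) (fun _ => 0)).lTensor _ z) := by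
  have h₀ : ⊤ ≤ y₀ ⁻¹ᵁ tupleProd V (fun _ : Fin 1 => j₀) := fun z hz =>
    le_tupleProd V (n := 0) (fun _ => j₀) (P := V j₀) (fun _ => le_rfl) (hj₀ hz)
  have hU : ∀ i, U i ≤ b ⁻¹ᵁ prodCover p q U V (i, j₀) := fun i x hx => by
    refine ⟨?_, ?_⟩
    · change p (b x) ∈ U i
      rw [← Scheme.Hom.comp_apply, hb]
      exact hx
    · change q (b x) ∈ V j₀
      rw [← Scheme.Hom.comp_apply, hb', Scheme.Hom.comp_apply]
      exact hj₀ (show (X ↘ Spec (CommRingCat.of k)) x ∈ (⊤ : (Spec (CommRingCat.of k)).Opens) from trivial)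
  refine ⟨h₀, hU, fun z => ?_⟩
  induction z using TensorProduct.induction_on with
  | zero => simp
  | add z z' hz hz' => simp only [map_add, hz, hz']
  | tmul s t =>
    rw [LinearMap.lTensor_tmul, TensorProduct.rid_tmul]
    funext c
    let W := prodCover p q U V
    let c' : Fin 2 → ι × ι' := fun r => (c r, j₀)
    let sv : Γ(X, tupleProd U c) := s c
    let tv : Γ(Y, tupleProd V (Prod.snd ∘ c')) := t (Prod.snd ∘ c')
    let π := X ↘ Spec (CommRingCat.of k)
    have hle : tupleProd U c ≤ tupleProd (pre b W) c' :=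
      le_tupleProd (pre b W) c' fun r => (tupleProd_le U c r).trans (hU (c r))
    change resO X hle (resO X (tupleProd_pre b W c').le ((toPush b).app (tupleProd W c')
      (show Γ(P, tupleProd W c') from theta k p q U V (over_id hp) (over_id hq) 1 (s ⊗ₜ t) c'))) = _
    rw [theta_tmul, toPush_app]
    change resO X hle (resO X (tupleProd_pre b W c').le ((b.app (tupleProd W c')).hom (thetaPiece p q U V c' sv tv))) =
      secRing k (tupleProd U c) (evalPoint k V y₀ (fun _ : Fin 1 => j₀) h₀ hy₀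
        (rg V k (F := Coh.structureModule Y) (m := 1) (n := 0) (fun _ => 0) t)) * sv
    rw [thetaPiece, map_mul, map_mul, map_mul]
    have hle' : tupleProd U c ≤ b ⁻¹ᵁ tupleProd W c' := hle.trans (tupleProd_pre b W c').le
    have e1 : ∀ {Z : Scheme.{u}} (g : P ⟶ Z) (O : Z.Opens) (h : tupleProd W c' ≤ g ⁻¹ᵁ O)
        (h' : tupleProd U c ≤ (b ≫ g) ⁻¹ᵁ O) (v : Γ(Z, O)),
        resO X hle (resO X (tupleProd_pre b W c').le ((b.app (tupleProd W c')).hom ((g.appLE O _ h).hom v))) =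
          ((b ≫ g).appLE O (tupleProd U c) h').hom v := fun g O h h' v => by
      rw [resO_resO]
      exact congr(($(Scheme.Hom.appLE_comp_appLE b g O (tupleProd W c') (tupleProd U c) h hle')).hom v)
    have hqu : ∀ (g : X ⟶ Y) (h : tupleProd U c ≤ g ⁻¹ᵁ tupleProd V (Prod.snd ∘ c')) (e : g = π ≫ y₀)
        (hh : ⊤ ≤ y₀ ⁻¹ᵁ tupleProd V (Prod.snd ∘ c')),
        (g.appLE (tupleProd V (Prod.snd ∘ c')) (tupleProd U c) h).hom tv =
          resO X le_top (π.appTop.hom ((y₀.appLE _ ⊤ hh).hom tv)) := by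
      rintro g h rfl hh
      refine (congr(($(Scheme.Hom.appLE_comp_appLE π y₀ _ ⊤ (tupleProd U c) hh le_top)).hom tv)).symm.trans ?_
      rfl
    have hpu : ∀ (g : X ⟶ X) (h : tupleProd U c ≤ g ⁻¹ᵁ tupleProd U c) (_ : g = 𝟙 _),
        (g.appLE (tupleProd U c) (tupleProd U c) h).hom sv = sv := by
      rintro g h rfl
      rw [Scheme.Hom.appLE, Scheme.Hom.id_app]
      exact congr(($(X.presheaf.map_id (op (tupleProd U c)))).hom sv)
    rw [e1 p _ _ (by exact hle'.trans (b.preimage_mono ((tupleProd_prodCover p q U V c').le.trans inf_le_left))),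
      e1 q _ _ (by exact hle'.trans (b.preimage_mono ((tupleProd_prodCover p q U V c').le.trans inf_le_right)))]
    refine (mul_comm _ _).trans (congrArg₂ (· * ·) ?_ (hpu (b ≫ p) _ hb))
    have hh : ⊤ ≤ y₀ ⁻¹ᵁ tupleProd V (Prod.snd ∘ c') := fun z hz =>
      le_tupleProd V (Prod.snd ∘ c') (P := V j₀) (fun _ => le_rfl) (hj₀ hz)
    refine (hqu (b ≫ q) _ hb' hh).trans ?_
    change resO X le_top (π.appTop.hom ((y₀.appLE _ ⊤ hh).hom tv)) =
      resO X le_top (π.appTop.hom ((Scheme.ΓSpecIso (CommRingCat.of k)).inv.hom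
        ((Scheme.ΓSpecIso (CommRingCat.of k)).hom.hom ((y₀.appLE _ ⊤ h₀).hom
          (resO Y (tupleProd_le_comp V (m := 1) (n := 0) (fun _ => 0) fun _ => j₀) tv)))))
    refine congrArg (resO X le_top) (congrArg π.appTop.hom ?_)
    refine Eq.trans ?_ congr(($((Scheme.ΓSpecIso (CommRingCat.of k)).hom_inv_id)).hom _).symm
    exact congr(($(Scheme.Hom.map_appLE y₀ h₀
      (homOfLE (tupleProd_le_comp V (m := 1) (n := 0) (fun _ => 0) fun _ => j₀)).op)).hom tv).symm

/-- A class in degree one killed by both slices vanishes. -/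
theorem mem_range_of_slices [Finite ι] [Finite ι']
    (sq : IsPullback p q (X ↘ Spec (CommRingCat.of k)) (Y ↘ Spec (CommRingCat.of k)))
    (hp : p ≫ (X ↘ Spec (CommRingCat.of k)) = P ↘ Spec (CommRingCat.of k))
    (hq : q ≫ (Y ↘ Spec (CommRingCat.of k)) = P ↘ Spec (CommRingCat.of k))
    (hU : ∀ (n : ℕ) (a : Fin (n + 1) → ι), IsAffineOpen (tupleProd U a))
    (hV : ∀ (n : ℕ) (a : Fin (n + 1) → ι'), IsAffineOpen (tupleProd V a))
    (hUc : iSup U = ⊤) (hVc : iSup V = ⊤)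
    (hX : Function.Bijective (X ↘ Spec (CommRingCat.of k)).appTop.hom)
    (hY : Function.Bijective (Y ↘ Spec (CommRingCat.of k)).appTop.hom)
    (x₀ : Spec (CommRingCat.of k) ⟶ X) (hx₀ : x₀ ≫ (X ↘ Spec (CommRingCat.of k)) = 𝟙 _)
    (a : Y ⟶ P) (ha : a ≫ q = 𝟙 _) (ha' : a ≫ p = (Y ↘ Spec (CommRingCat.of k)) ≫ x₀)
    (wa : a ≫ (P ↘ Spec (CommRingCat.of k)) =
      (Y ↘ Spec (CommRingCat.of k)) ≫ Spec.map (CommRingCat.ofHom (RingHom.id k)))
    (y₀ : Spec (CommRingCat.of k) ⟶ Y) (hy₀ : y₀ ≫ (Y ↘ Spec (CommRingCat.of k)) = 𝟙 _)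
    (b : X ⟶ P) (hb : b ≫ p = 𝟙 _) (hb' : b ≫ q = (X ↘ Spec (CommRingCat.of k)) ≫ y₀)
    (wb : b ≫ (P ↘ Spec (CommRingCat.of k)) =
      (X ↘ Spec (CommRingCat.of k)) ≫ Spec.map (CommRingCat.ofHom (RingHom.id k)))
    (c : (CoX k (prodCover p q U V) (Coh.structureModule P) 1 : Type u))
    (hc : dL k (prodCover p q U V) (Coh.structureModule P) 1 c = 0)
    (hca : coX a (prodCover p q U V) (toPush a) wa 1 c ∈
      LinearMap.range (dL k (pre a (prodCover p q U V)) (Coh.structureModule Y) 0))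
    (hcb : coX b (prodCover p q U V) (toPush b) wb 1 c ∈
      LinearMap.range (dL k (pre b (prodCover p q U V)) (Coh.structureModule X) 0)) :
    c ∈ LinearMap.range (dL k (prodCover p q U V) (Coh.structureModule P) 0) := by
  obtain ⟨i₀, hi₀⟩ := Opens.mem_iSup.1 (show x₀ (IsLocalRing.closedPoint k) ∈ iSup U from hUc ▸ trivial)
  obtain ⟨j₀, hj₀⟩ := Opens.mem_iSup.1 (show y₀ (IsLocalRing.closedPoint k) ∈ iSup V from hVc ▸ trivial)
  haveI : Subsingleton ↥(Spec (CommRingCat.of k)) := inferInstanceAs (Subsingleton (PrimeSpectrum k))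
  have hi : ⊤ ≤ x₀ ⁻¹ᵁ U i₀ := fun z _ => Subsingleton.elim (IsLocalRing.closedPoint k) z ▸ hi₀
  have hj : ⊤ ≤ y₀ ⁻¹ᵁ V j₀ := fun z _ => Subsingleton.elim (IsLocalRing.closedPoint k) z ▸ hj₀
  obtain ⟨hx0, hVa, hsa⟩ := exists_slice_fst k p q U V hp hq x₀ hx₀ a ha ha' wa i₀ hi
  obtain ⟨hy0, hUb, hsb⟩ := exists_slice_snd k p q U V hp hq y₀ hy₀ b hb hb' wb j₀ hj
  let θ := fun n => theta k p q U V (over_id hp) (over_id hq) n
  have hbij := fun n => theta_bijective k p q U V (over_id hp) (over_id hq) sq hU hV n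
  obtain ⟨z, rfl⟩ := (hbij 1).2 c
  have hcoc : TensorProduct.map (rg U k ![1, 2]) (rg V k ![1, 2]) z - TensorProduct.map (rg U k ![0, 2]) (rg V k ![0, 2]) z +
      TensorProduct.map (rg U k ![0, 1]) (rg V k ![0, 1]) z = 0 := (hbij 2).1 (by
    rw [map_add, map_sub, theta_rg, theta_rg, theta_rg, map_zero, ← dL_one_eq]
    exact hc)
  let t₀ : Fin 3 → Fin 2 := ![0, 0, 1]
  let t₁ : Fin 3 → Fin 2 := ![0, 1, 1]
  let A := rg U k (F := Coh.structureModule X) (m := 0) (n := 1) ![0]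
  let B := rg U k (F := Coh.structureModule X) (m := 0) (n := 1) ![1]
  let A' := rg V k (F := Coh.structureModule Y) (m := 0) (n := 1) ![0]
  let B' := rg V k (F := Coh.structureModule Y) (m := 0) (n := 1) ![1]
  let sX := rg U k (F := Coh.structureModule X) (m := 1) (n := 0) (fun _ => 0)
  let sY := rg V k (F := Coh.structureModule Y) (m := 1) (n := 0) (fun _ => 0)
  have cX : ∀ {l m n : ℕ} (σ : Fin (l + 1) → Fin (m + 1)) (τ : Fin (m + 1) → Fin (n + 1)),
      rg U k (F := Coh.structureModule X) τ ∘ₗ rg U k σ = rg U k (τ ∘ σ) :=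
    fun σ τ => LinearMap.ext fun x => rg_rg U k σ τ x
  have cY : ∀ {l m n : ℕ} (σ : Fin (l + 1) → Fin (m + 1)) (τ : Fin (m + 1) → Fin (n + 1)),
      rg V k (F := Coh.structureModule Y) τ ∘ₗ rg V k σ = rg V k (τ ∘ σ) :=
    fun σ τ => LinearMap.ext fun x => rg_rg V k σ τ x
  have iX : rg U k (F := Coh.structureModule X) (id : Fin 2 → Fin 2) = LinearMap.id :=
    LinearMap.ext fun x => rg_id U k x
  have iY : rg V k (F := Coh.structureModule Y) (id : Fin 2 → Fin 2) = LinearMap.id :=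
    LinearMap.ext fun x => rg_id V k x
  have happ : ∀ (s t : Fin 3 → Fin 2) (d : Fin 2 → Fin 3), TensorProduct.map (rg U k (m := 2) (n := 1) s)
      (rg V k (m := 2) (n := 1) t) (TensorProduct.map (rg U k (m := 1) d) (rg V k (m := 1) d) z) =
      TensorProduct.map (rg U k (m := 1) (s ∘ d)) (rg V k (m := 1) (t ∘ d)) z := fun s t d => by
    rw [← LinearMap.comp_apply, ← TensorProduct.map_comp, cX, cY]
  have h₁ := congrArg (TensorProduct.map (rg U k (m := 2) (n := 1) t₁) (rg V k (m := 2) (n := 1) t₀)) hcoc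
  have h₂ := congrArg (TensorProduct.map (rg U k (m := 2) (n := 1) t₀) (rg V k (m := 2) (n := 1) t₁)) hcoc
  rw [map_add, map_sub, map_zero, happ, happ, happ] at h₁ h₂
  have f1 : t₁ ∘ ![1, 2] = ![1] ∘ (fun _ => 0) := by funext r; fin_cases r <;> rfl
  have f2 : t₁ ∘ ![0, 2] = id := by funext r; fin_cases r <;> rfl
  have f3 : t₁ ∘ ![0, 1] = id := by funext r; fin_cases r <;> rfl
  have g1 : t₀ ∘ ![1, 2] = id := by funext r; fin_cases r <;> rfl
  have g2 : t₀ ∘ ![0, 2] = id := by funext r; fin_cases r <;> rfl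
  have g3 : t₀ ∘ ![0, 1] = ![0] ∘ (fun _ => 0) := by funext r; fin_cases r <;> rfl
  rw [f1, f2, f3, g1, g2, g3, iX, iY, ← cX, ← cY, TensorProduct.map_id, LinearMap.id_apply] at h₁ h₂
  have e₁ : z = TensorProduct.map LinearMap.id (A' ∘ₗ sY) z + TensorProduct.map (B ∘ₗ sX) LinearMap.id z := by
    rw [sub_add_eq_add_sub, sub_eq_zero] at h₁
    exact h₁.symm.trans (add_comm _ _)
  have e₂ : z = TensorProduct.map (A ∘ₗ sX) LinearMap.id z + TensorProduct.map LinearMap.id (B' ∘ₗ sY) z := by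
    rw [sub_add_eq_add_sub, sub_eq_zero] at h₂
    exact h₂.symm.trans (add_comm _ _)
  obtain ⟨α, hα⟩ := hca
  obtain ⟨β, hβ⟩ := hcb
  obtain ⟨γ, hγ⟩ := kunneth_one A B A' B' sX sY (oneCo k U) (oneCo k V)
    (evalPoint k U x₀ (fun _ : Fin 1 => i₀) hx0 hx₀) (evalPoint k V y₀ (fun _ : Fin 1 => j₀) hy0 hy₀)
    (fun x hx => exists_const k U hUc hX x hx) (fun y hy => exists_const k V hVc hY y hy)
    (d_oneCo k V y₀ hy₀)
    (by
      change (Scheme.ΓSpecIso (CommRingCat.of k)).hom.hom ((x₀.appLE _ ⊤ hx0).hom 1) = 1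
      rw [map_one, map_one])
    (by
      change (Scheme.ΓSpecIso (CommRingCat.of k)).hom.hom ((y₀.appLE _ ⊤ hy0).hom 1) = 1
      rw [map_one, map_one])
    z e₁ e₂
    ⟨-fixFst k V (prodCover p q U V) a i₀ hVa 0 α, by
      rw [← hsa, ← hα, dL_zero_eq, map_sub, fixFst_rg, fixFst_rg, map_neg, LinearMap.sub_apply]
      abel⟩
    ⟨-fixSnd k U (prodCover p q U V) b j₀ hUb 0 β, by
      rw [← hsb, ← hβ, dL_zero_eq, map_sub, fixSnd_rg, fixSnd_rg, map_neg, LinearMap.sub_apply]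
      abel⟩
  refine ⟨-θ 0 γ, ?_⟩
  rw [hγ, map_sub, theta_rg, theta_rg, dL_zero_eq, map_neg, map_neg]
  abel

end Groth.Agent.W7Cube
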