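import Groth.Agent.FlatCx.Tensor

/-!
Natural maps between the functors `M ↦ H_p(P ⊗ M)` from maps of complexes.
-/

set_option autoImplicit false
set_option backward.isDefEq.respectTransparency false
set_option backward.isDefEq.respectTransparency.types false

universe u

open CategoryTheory CategoryTheory.Limits TensorProduct MonoidalCategory
open Groth.Agent.FlatCx

noncomputable section

namespace Groth.Agent.W7Cube

variable {A : Type u} [CommRing A] {ι : Type} {c : ComplexShape ι} {P Q : HomologicalComplex (ModuleCat.{u} A) c}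

/-- A map of complexes tensored with a module. -/
abbrev tMor (φ : P ⟶ Q) (M : ModuleCat.{u} A) : CohIII.tensorObj P M ⟶ CohIII.tensorObj Q M :=
  ((tensorRight M).mapHomologicalComplex c).map φ

/-- The natural map of homology functors. -/
def TNat (φ : P ⟶ Q) (p : ι) : CohIII.TFun P p ⟶ CohIII.TFun Q p where
  app M := HomologicalComplex.homologyMap (tMor φ M) p
  naturality M N g := by
    change HomologicalComplex.homologyMap (CohIII.tensorMap P g) p ≫ HomologicalComplex.homologyMap (tMor φ N) p =
      HomologicalComplex.homologyMap (tMor φ M) p ≫ HomologicalComplex.homologyMap (CohIII.tensorMap Q g) p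
    rw [← HomologicalComplex.homologyMap_comp, ← HomologicalComplex.homologyMap_comp]
    exact congrArg (fun k => HomologicalComplex.homologyMap k p)
      ((NatTrans.mapHomologicalComplex ((tensoringRight (ModuleCat.{u} A)).map g) c).naturality φ).symm

/-- The natural map on classes. -/
theorem TNat_cls (φ : P ⟶ Q) (p : ι) (M : ModuleCat.{u} A) (z : LinearMap.ker (dT P M p (c.next p))) :
    ∃ h : (φ.f p).hom.rTensor M z.1 ∈ LinearMap.ker (dT Q M p (c.next p)),
      ((TNat φ p).app M).hom (cls P p M z) = cls Q p M ⟨_, h⟩ := by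
  have h : (φ.f p).hom.rTensor M z.1 ∈ LinearMap.ker (dT Q M p (c.next p)) := by
    have e : (Q.d p (c.next p)).hom ∘ₗ (φ.f p).hom = (φ.f (c.next p)).hom ∘ₗ (P.d p (c.next p)).hom := by
      rw [← ModuleCat.hom_comp, ← ModuleCat.hom_comp, φ.comm]
    rw [LinearMap.mem_ker, dT, ← LinearMap.comp_apply, ← LinearMap.rTensor_comp, e, LinearMap.rTensor_comp,
      LinearMap.comp_apply]
    exact (congrArg _ z.2).trans (map_zero _)
  refine ⟨h, ?_⟩
  show HomologicalComplex.homologyMap (tMor φ M) p (cls P p M z) = _
  rw [cls_apply, cls_apply, homologyMap_homologyπ]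
  congr 1
  apply iCycles_injective
  rw [iCycles_cyclesMap, iCycles_cyclesIso_inv, iCycles_cyclesIso_inv]
  rfl

/-- Elementwise criterion for joint injectivity of two natural maps. -/
theorem TNat_pair_injective {R : HomologicalComplex (ModuleCat.{u} A) c} (φ : P ⟶ Q) (ψ : P ⟶ R) (p : ι)
    (M : ModuleCat.{u} A)
    (H : ∀ z, dT P M p (c.next p) z = 0 →
      (φ.f p).hom.rTensor M z ∈ LinearMap.range (dT Q M (c.prev p) p) →
      (ψ.f p).hom.rTensor M z ∈ LinearMap.range (dT R M (c.prev p) p) →
      z ∈ LinearMap.range (dT P M (c.prev p) p))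
    (x : CohIII.T P p M) (h₁ : ((TNat φ p).app M).hom x = 0) (h₂ : ((TNat ψ p).app M).hom x = 0) : x = 0 := by
  obtain ⟨z, rfl⟩ := cls_surjective P p M x
  obtain ⟨hz₁, e₁⟩ := TNat_cls φ p M z
  obtain ⟨hz₂, e₂⟩ := TNat_cls ψ p M z
  rw [e₁] at h₁
  rw [e₂] at h₂
  exact (cls_eq_zero_iff P p M z).2
    (H z.1 z.2 ((cls_eq_zero_iff Q p M _).1 h₁) ((cls_eq_zero_iff R p M _).1 h₂))

/-- The product of two functors to modules. -/
def prodFun {C : Type*} [Category C] (F G : C ⥤ ModuleCat.{u} A) : C ⥤ ModuleCat.{u} A where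
  obj M := ModuleCat.of A (Prod (F.obj M) (G.obj M))
  map g := ModuleCat.ofHom (LinearMap.prodMap (F.map g).hom (G.map g).hom)
  map_id M := by
    refine ModuleCat.hom_ext (LinearMap.ext fun x => Prod.ext ?_ ?_)
    · exact congr(($(F.map_id M)).hom x.1)
    · exact congr(($(G.map_id M)).hom x.2)
  map_comp g h := by
    refine ModuleCat.hom_ext (LinearMap.ext fun x => Prod.ext ?_ ?_)
    · exact congr(($(F.map_comp g h)).hom x.1)
    · exact congr(($(G.map_comp g h)).hom x.2)

lemma preservesMono_prodFun {F G : ModuleCat.{u} A ⥤ ModuleCat.{u} A} (hF : F.PreservesMonomorphisms)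
    (hG : G.PreservesMonomorphisms) : (prodFun F G).PreservesMonomorphisms :=
  ⟨fun {M N} g hg => (ModuleCat.mono_iff_injective _).2 (Function.Injective.prodMap
    ((ModuleCat.mono_iff_injective _).1 (hF.preserves g)) ((ModuleCat.mono_iff_injective _).1 (hG.preserves g)))⟩

/-- A pair of natural transformations into the product. -/
def pairNat {C : Type*} [Category C] {E F G : C ⥤ ModuleCat.{u} A} (η : E ⟶ F) (θ : E ⟶ G) :
    E ⟶ prodFun F G where
  app M := ModuleCat.ofHom (X := E.obj M) (Y := Prod (F.obj M) (G.obj M))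
    (LinearMap.prod (η.app M).hom (θ.app M).hom)
  naturality M N g := by
    refine ModuleCat.hom_ext (LinearMap.ext fun x => ?_)
    exact Prod.ext (congr(($(η.naturality g)).hom x)) (congr(($(θ.naturality g)).hom x))

end Groth.Agent.W7Cube
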