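import Groth.Agent.W7Cube.Ext
import Groth.Agent.W7Cube.Field
import Groth.Agent.W7Cube.TNat
import Groth.Agent.W7Cube.Alg

/-!
Over an affine base: a bundle on a product, trivial on both slices and on one fibre, has right exact `T⁰` there.
-/

set_option autoImplicit false
set_option backward.isDefEq.respectTransparency false
set_option backward.isDefEq.respectTransparency.types false
set_option linter.style.haveILetI false
set_option maxHeartbeats 1000000

universe u

open CategoryTheory CategoryTheory.Limits AlgebraicGeometry TopologicalSpace Opposite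
open Groth.Agent.SiteCoh Groth.Agent.ProjCech Groth.Agent.W7Cech
open Groth.Agent.QC (res resO res_res res_self res_smul app_res resO_resO)
open scoped TensorProduct

noncomputable section

namespace Groth.Agent.W7Cube

/-- Cochains along trivialisations differing by a scalar. -/
lemma co_scalar {A B : Type u} [CommRing A] [CommRing B] {φ : A →+* B} {X X' : Scheme.{u}}
    [X.Over (Spec (CommRingCat.of A))] [X'.Over (Spec (CommRingCat.of B))] {ι : Type u} {F : X.Modules}
    (g : X' ⟶ X)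
    (w : g ≫ (X ↘ Spec (CommRingCat.of A)) = (X' ↘ Spec (CommRingCat.of B)) ≫ Spec.map (CommRingCat.ofHom φ))
    (U : ι → X.Opens) (U' : ι → X'.Opens) (hle : ∀ i, U' i ≤ g ⁻¹ᵁ U i)
    (τ τ' : F ⟶ (Scheme.Modules.pushforward g).obj (Coh.structureModule X')) (r : B)
    (h : ∀ (V : X.Opens) (s : Γ(F, V)), (show Γ(X', g ⁻¹ᵁ V) from τ'.app V s) =
      secRing B (g ⁻¹ᵁ V) r * (show Γ(X', g ⁻¹ᵁ V) from τ.app V s))
    (n : ℕ) (x : (CoX A U F n : Type u)) : co g U U' τ' w hle n x = r • co g U U' τ w hle n x := by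
  funext a
  rw [co_apply]
  refine (congrArg (resO X' (le_pre_tupleProd g U U' hle a)) (h _ _)).trans ?_
  rw [map_mul, resO_secRing]
  change _ = secRing B (tupleProd U' a) r * (show Γ(X', tupleProd U' a) from co g U U' τ w hle n x a)
  rw [co_apply]
  rfl

section Slice

variable (A : Type u) [CommRing A] {Q P : Scheme.{u}} [Q.Over (Spec (CommRingCat.of A))]
  [P.Over (Spec (CommRingCat.of A))] (a : Q ⟶ P)
  (wa : a ≫ (P ↘ Spec (CommRingCat.of A)) =
    (Q ↘ Spec (CommRingCat.of A)) ≫ Spec.map (CommRingCat.ofHom (RingHom.id A)))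
  {ι : Type u} (W : ι → P.Opens) {L : P.Modules}
  (τ : L ⟶ (Scheme.Modules.pushforward a).obj (Coh.structureModule Q))

/-- Restriction of cochains to a slice, as a map of complexes. -/
def sliceCx (wa' : a ≫ (P ↘ Spec (CommRingCat.of A)) =
      (Q ↘ Spec (CommRingCat.of A)) ≫ Spec.map (CommRingCat.ofHom (RingHom.id A))) :
    (CC A W).obj L ⟶ (CC A (pre a W)).obj (Coh.structureModule Q) :=
  CochainComplex.ofHom (fun n => ModuleCat.ofHom (co a W (pre a W) τ wa' (fun _ => le_rfl) n)) fun n => by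
    change ModuleCat.ofHom _ ≫ CochainComplex.of.d (CoX A (pre a W) (Coh.structureModule Q))
        (fun n => ModuleCat.ofHom (dL A (pre a W) (Coh.structureModule Q) n)) n (n + 1) =
      CochainComplex.of.d (CoX A W L) (fun n => ModuleCat.ofHom (dL A W L n)) n (n + 1) ≫ ModuleCat.ofHom _
    rw [CochainComplex.of_d, CochainComplex.of_d]
    exact ModuleCat.hom_ext (LinearMap.ext fun x => co_d a wa' W (pre a W) (fun _ => le_rfl) τ n x)

lemma sliceCx_f (n : ℕ) :
    ((sliceCx A a W τ wa).f n).hom = co a W (pre a W) τ wa (fun _ => le_rfl) n := rfl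

end Slice

section SliceField

variable {A B : Type u} [CommRing A] [Field B] [Algebra A B] {Q P Q' P' : Scheme.{u}}
  [Q.Over (Spec (CommRingCat.of A))] [P.Over (Spec (CommRingCat.of A))] [Q'.Over (Spec (CommRingCat.of B))]
  [P'.Over (Spec (CommRingCat.of B))] {ι : Type u}

/-- A class dying on the slice still dies there after base change. -/
theorem slice_mem_range (a : Q ⟶ P) (wa : a ≫ (P ↘ Spec (CommRingCat.of A)) =
      (Q ↘ Spec (CommRingCat.of A)) ≫ Spec.map (CommRingCat.ofHom (RingHom.id A)))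
    (gP : P' ⟶ P) (wP : gP ≫ (P ↘ Spec (CommRingCat.of A)) =
      (P' ↘ Spec (CommRingCat.of B)) ≫ Spec.map (CommRingCat.ofHom (algebraMap A B)))
    (gQ : Q' ⟶ Q) (wQ : gQ ≫ (Q ↘ Spec (CommRingCat.of A)) =
      (Q' ↘ Spec (CommRingCat.of B)) ≫ Spec.map (CommRingCat.ofHom (algebraMap A B)))
    (a' : Q' ⟶ P') (wa' : a' ≫ (P' ↘ Spec (CommRingCat.of B)) =
      (Q' ↘ Spec (CommRingCat.of B)) ≫ Spec.map (CommRingCat.ofHom (RingHom.id B)))
    (hcomm : gQ ≫ a = a' ≫ gP) (hQ : Function.Bijective (Q' ↘ Spec (CommRingCat.of B)).appTop.hom)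
    (W : ι → P.Opens) (W' : ι → P'.Opens) (hle : ∀ i, W' i ≤ gP ⁻¹ᵁ W i) {L : P.Modules} (hL : PicF.IsInvertible L)
    {τP : L ⟶ (Scheme.Modules.pushforward gP).obj (Coh.structureModule P')} (hP : Triv τP)
    {τa : L ⟶ (Scheme.Modules.pushforward a).obj (Coh.structureModule Q)} (ha : Triv τa)
    (z : (CoX A W L 1 : Type u) ⊗[A] B)
    (hz : ((sliceCx A a W τa wa).f 1).hom.rTensor B z ∈
      LinearMap.range ((dL A (pre a W) (Coh.structureModule Q) 0).rTensor B)) :
    coX a' W' (toPush a') wa' 1 (extCo A B gP W W' τP 1 wP hle z) ∈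
      LinearMap.range (dL B (pre a' W') (Coh.structureModule Q') 0) := by
  let W'' := pre a' W'
  have hleQ : ∀ i, W'' i ≤ gQ ⁻¹ᵁ (pre a W i) := fun i t ht => by
    change a (gQ t) ∈ W i
    rw [← Scheme.Hom.comp_apply, hcomm, Scheme.Hom.comp_apply]
    exact hle i ht
  have whc : (a' ≫ gP) ≫ (P ↘ Spec (CommRingCat.of A)) =
      (Q' ↘ Spec (CommRingCat.of B)) ≫ Spec.map (CommRingCat.ofHom (algebraMap A B)) := by
    rw [Category.assoc, wP, ← Category.assoc, wa', CommRingCat.ofHom_id, Spec.map_id, Category.comp_id]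
  have wqa : (gQ ≫ a) ≫ (P ↘ Spec (CommRingCat.of A)) =
      (Q' ↘ Spec (CommRingCat.of B)) ≫ Spec.map (CommRingCat.ofHom (algebraMap A B)) := by rw [hcomm, whc]
  have hleh : ∀ i, W'' i ≤ (a' ≫ gP) ⁻¹ᵁ W i := fun i t ht => hle i ht
  have hleqa : ∀ i, W'' i ≤ (gQ ≫ a) ⁻¹ᵁ W i := fun i t ht => hleQ i ht
  let σQ := toPush gQ
  let τ₂ := τP ≫ (Scheme.Modules.pushforward gP).map (toPush a')
  let τ₁ := τa ≫ (Scheme.Modules.pushforward a).map σQ
  have hmove : ∀ (h : Q' ⟶ P) (e : gQ ≫ a = h) (w : h ≫ (P ↘ Spec (CommRingCat.of A)) =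
        (Q' ↘ Spec (CommRingCat.of B)) ≫ Spec.map (CommRingCat.ofHom (algebraMap A B)))
      (hl : ∀ i, W'' i ≤ h ⁻¹ᵁ W i),
      ∃ τ : L ⟶ (Scheme.Modules.pushforward h).obj (Coh.structureModule Q'), Triv τ ∧
        ∀ s, co (gQ ≫ a) W W'' τ₁ wqa hleqa 1 s = co h W W'' τ w hl 1 s := by
    rintro h rfl w hl
    exact ⟨τ₁, Triv.comp gQ ha, fun s => rfl⟩
  obtain ⟨τ₁', hτ₁', hco₁⟩ := hmove _ hcomm whc hleh
  obtain ⟨v, -, hv⟩ := hτ₁'.exists_unit hL (Triv.comp a' hP)
  obtain ⟨v', hv'⟩ := hQ.2 v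
  obtain ⟨r, rfl⟩ := (ConcreteCategory.bijective_of_isIso (Scheme.ΓSpecIso (CommRingCat.of B)).inv).2 v'
  have hscal : ∀ s, co (a' ≫ gP) W W'' τ₂ whc hleh 1 s = r • co (a' ≫ gP) W W'' τ₁' whc hleh 1 s := fun s =>
    co_scalar _ whc W W'' hleh τ₁' τ₂ r (fun V t => by
      refine (hv V t).trans ?_
      rw [← hv']
      rfl) 1 s
  have key : ∀ y : (CoX A W L 1 : Type u) ⊗[A] B,
      coX a' W' (toPush a') wa' 1 (extCo A B gP W W' τP 1 wP hle y) =
        r • extCo A B gQ (pre a W) W'' σQ 1 wQ hleQ (((sliceCx A a W τa wa).f 1).hom.rTensor B y) := by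
    intro y
    induction y using TensorProduct.induction_on with
    | zero => simp
    | add y y' hy hy' => simp only [map_add, hy, hy', smul_add]
    | tmul s c =>
      rw [LinearMap.rTensor_tmul, sliceCx_f, extCo_tmul, extCo_tmul, LinearMap.map_smulₛₗ, RingHom.id_apply,
        smul_smul, mul_comm r c, mul_smul]
      refine congrArg (c • ·) ?_
      have h1 : coX a' W' (toPush a') wa' 1 (co gP W W' τP wP hle 1 s) =
          co a' W' W'' (toPush a') wa' (fun _ => le_rfl) 1 (co gP W W' τP wP hle 1 s) :=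
        funext fun i => (res_self _ _ _).symm
      rw [h1, ← co_co gP wP W W' hle a' wa' whc τP (toPush a') W'' (fun _ => le_rfl) hleh 1 s,
        hscal, ← hco₁]
      exact congrArg (r • ·) (co_co a wa W (pre a W) (fun _ => le_rfl) gQ wQ wqa τa σQ W'' hleQ hleqa 1 s)
  obtain ⟨β, hβ⟩ := hz
  refine ⟨r • extCo A B gQ (pre a W) W'' σQ 0 wQ hleQ β, ?_⟩
  rw [map_smul, extCo_d, hβ, key]

end SliceField

set_option maxHeartbeats 4000000 in
/-- The cube, infinitesimally: the residue field values of `T⁰` are generated. -/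
theorem mem_freeLocus_cube (A : Type u) [CommRing A] {X Y P : Scheme.{u}}
    [X.Over (Spec (CommRingCat.of A))] [Y.Over (Spec (CommRingCat.of A))] [P.Over (Spec (CommRingCat.of A))]
    (p : P ⟶ X) (q : P ⟶ Y) (sq : IsPullback p q (X ↘ Spec (CommRingCat.of A)) (Y ↘ Spec (CommRingCat.of A)))
    (hp : p ≫ (X ↘ Spec (CommRingCat.of A)) = P ↘ Spec (CommRingCat.of A))
    [IsProper (X ↘ Spec (CommRingCat.of A))] [IsProper (Y ↘ Spec (CommRingCat.of A))]
    (x₀ : Spec (CommRingCat.of A) ⟶ X) (hx₀ : x₀ ≫ (X ↘ Spec (CommRingCat.of A)) = 𝟙 _)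
    (y₀ : Spec (CommRingCat.of A) ⟶ Y) (hy₀ : y₀ ≫ (Y ↘ Spec (CommRingCat.of A)) = 𝟙 _)
    (a : Y ⟶ P) (ha : a ≫ q = 𝟙 _) (ha' : a ≫ p = (Y ↘ Spec (CommRingCat.of A)) ≫ x₀)
    (b : X ⟶ P) (hb : b ≫ p = 𝟙 _) (hb' : b ≫ q = (X ↘ Spec (CommRingCat.of A)) ≫ y₀)
    (L : P.Modules) (hL : PicF.IsInvertible L)
    (ja : (Scheme.Modules.pullback a).obj L ≅ Coh.structureModule Y)
    (jb : (Scheme.Modules.pullback b).obj L ≅ Coh.structureModule X)
    (Lf : CochainComplex (ModuleCat.{u} A) ℤ) (hLf : ∀ i, Module.Finite A (Lf.X i) ∧ Module.Free A (Lf.X i))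
    (hT : ∀ (ι : Type u) [Finite ι] (W : ι → P.Opens),
      (∀ (n : ℕ) (c : Fin (n + 1) → ι), IsAffineOpen (tupleProd W c)) → iSup W = ⊤ →
        Nonempty (CohIII.TFun Lf ((1 : ℕ) : ℤ) ≅ CohIII.TFun ((CC A W).obj L) 1))
    (hTY : ∀ (ι : Type u) [Finite ι] (W : ι → Y.Opens),
      (∀ (n : ℕ) (c : Fin (n + 1) → ι), IsAffineOpen (tupleProd W c)) → iSup W = ⊤ →
        (CohIII.TFun ((CC A W).obj (Coh.structureModule Y)) 1).PreservesMonomorphisms)
    (hTX : ∀ (ι : Type u) [Finite ι] (W : ι → X.Opens),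
      (∀ (n : ℕ) (c : Fin (n + 1) → ι), IsAffineOpen (tupleProd W c)) → iSup W = ⊤ →
        (CohIII.TFun ((CC A W).obj (Coh.structureModule X)) 1).PreservesMonomorphisms)
    (x : PrimeSpectrum A)
    (hX : Function.Bijective (pullback.snd (X ↘ Spec (CommRingCat.of A))
      (Spec.map (CommRingCat.ofHom (algebraMap A x.asIdeal.ResidueField)))).appTop.hom)
    (hY : Function.Bijective (pullback.snd (Y ↘ Spec (CommRingCat.of A))
      (Spec.map (CommRingCat.ofHom (algebraMap A x.asIdeal.ResidueField)))).appTop.hom)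
    (j : (Scheme.Modules.pullback (pullback.fst (P ↘ Spec (CommRingCat.of A))
      (Spec.map (CommRingCat.ofHom (algebraMap A x.asIdeal.ResidueField))))).obj L ≅ Coh.structureModule _) :
    x ∈ Module.freeLocus A (FlatCx.Opc Lf 0 ((ComplexShape.up ℤ).next 0)) := by
  let k : Type u := x.asIdeal.ResidueField
  let S := Spec.map (CommRingCat.ofHom (algebraMap A k))
  let πX := X ↘ Spec (CommRingCat.of A)
  let πY := Y ↘ Spec (CommRingCat.of A)
  let πP := P ↘ Spec (CommRingCat.of A)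
  have hq : q ≫ πY = πP := sq.w.symm.trans hp
  haveI : IsProper q := MorphismProperty.of_isPullback sq (inferInstance : IsProper πX)
  haveI : IsProper p := MorphismProperty.of_isPullback sq.flip (inferInstance : IsProper πY)
  haveI : IsAffineHom a := by
    haveI : IsAffineHom (a ≫ q) := by rw [ha]; infer_instance
    exact IsAffineHom.of_comp a q
  haveI : IsAffineHom b := by
    haveI : IsAffineHom (b ≫ p) := by rw [hb]; infer_instance
    exact IsAffineHom.of_comp b p
  haveI : CompactSpace X := QuasiCompact.compactSpace_of_compactSpace πX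
  haveI : CompactSpace Y := QuasiCompact.compactSpace_of_compactSpace πY
  haveI : X.IsSeparated := ⟨by rw [← terminal.comp_from πX]; infer_instance⟩
  haveI : Y.IsSeparated := ⟨by rw [← terminal.comp_from πY]; infer_instance⟩
  obtain ⟨ι, hι, U, hU, hUc⟩ := exists_cover X
  obtain ⟨ι', hι', V, hV, hVc⟩ := exists_cover Y
  haveI := hι; haveI := hι'
  let W := prodCover p q U V
  have hW : ∀ (n : ℕ) (c : Fin (n + 1) → ι × ι'), IsAffineOpen (tupleProd W c) :=
    isAffineOpen_prodCover A p q U V πX πY sq hU hV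
  have hWc : iSup W = ⊤ := iSup_prodCover p q U V hUc hVc
  obtain ⟨e⟩ := hT _ W hW hWc
  have wa : a ≫ πP = πY ≫ Spec.map (CommRingCat.ofHom (RingHom.id A)) := over_id (by
    change a ≫ πP = πY
    rw [show πP = q ≫ πY from hq.symm, ← Category.assoc, ha, Category.id_comp])
  have wb : b ≫ πP = πX ≫ Spec.map (CommRingCat.ofHom (RingHom.id A)) := over_id (by
    change b ≫ πP = πX
    rw [show πP = p ≫ πX from hp.symm, ← Category.assoc, hb, Category.id_comp])
  let τa := (Scheme.Modules.pullbackPushforwardAdjunction a).homEquiv L (Coh.structureModule Y) ja.hom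
  let τb := (Scheme.Modules.pullbackPushforwardAdjunction b).homEquiv L (Coh.structureModule X) jb.hom
  let φa := sliceCx A a W τa wa
  let φb := sliceCx A b W τb wb
  have hWa : ∀ (n : ℕ) (c : Fin (n + 1) → ι × ι'), IsAffineOpen (tupleProd (pre a W) c) := fun n c => by
    rw [tupleProd_pre]; exact (hW n c).preimage a
  have hWb : ∀ (n : ℕ) (c : Fin (n + 1) → ι × ι'), IsAffineOpen (tupleProd (pre b W) c) := fun n c => by
    rw [tupleProd_pre]; exact (hW n c).preimage b
  haveI := preservesMono_prodFun (hTY _ (pre a W) hWa (iSup_pre a W hWc)) (hTX _ (pre b W) hWb (iSup_pre b W hWc))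
  let η : CohIII.TFun Lf 1 ⟶ prodFun (CohIII.TFun ((CC A (pre a W)).obj (Coh.structureModule Y)) 1)
      (CohIII.TFun ((CC A (pre b W)).obj (Coh.structureModule X)) 1) :=
    e.hom ≫ pairNat (TNat φa 1) (TNat φb 1)
  refine gen_of_natTrans Lf hLf x η ?_
  let M : ModuleCat.{u} A := ModuleCat.of A k
  refine Function.Injective.comp (g := ⇑((pairNat (TNat φa 1) (TNat φb 1)).app M).hom) ?_
    (e.app M).toLinearEquiv.injective
  refine (injective_iff_map_eq_zero _).2 fun t ht => ?_
  refine TNat_pair_injective φa φb 1 M ?_ t (congrArg Prod.fst ht) (congrArg Prod.snd ht)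
  intro z hz hza hzb
  rw [CochainComplex.next] at hz
  rw [show (ComplexShape.up ℕ).prev 1 = 0 from by simp] at hza hzb ⊢
  rw [FlatCx.dT, CC_d] at hz hza hzb ⊢
  -- the fibre
  let gX := pullback.fst πX S
  let gY := pullback.fst πY S
  let gP := pullback.fst πP S
  letI : (pullback πX S).Over (Spec (CommRingCat.of k)) := ⟨pullback.snd πX S⟩
  letI : (pullback πY S).Over (Spec (CommRingCat.of k)) := ⟨pullback.snd πY S⟩
  letI : (pullback πP S).Over (Spec (CommRingCat.of k)) := ⟨pullback.snd πP S⟩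
  let pk : pullback πP S ⟶ pullback πX S :=
    pullback.map πP S πX S p (𝟙 _) (𝟙 _) (by rw [Category.comp_id]; exact hp.symm) (by simp)
  let qk : pullback πP S ⟶ pullback πY S :=
    pullback.map πP S πY S q (𝟙 _) (𝟙 _) (by rw [Category.comp_id]; exact hq.symm) (by simp)
  have hpk : pk ≫ pullback.snd πX S = pullback.snd πP S := by simp [pk]
  have hqk : qk ≫ pullback.snd πY S = pullback.snd πP S := by simp [qk]
  have hpg : pk ≫ gX = gP ≫ p := by simp [pk, gX, gP]
  have hqg : qk ≫ gY = gP ≫ q := by simp [qk, gY, gP]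
  have sk : IsPullback pk qk (pullback.snd πX S) (pullback.snd πY S) := by
    have h1 : IsPullback gP pk p gX := by
      refine IsPullback.of_bot ?_ hpg.symm (IsPullback.of_hasPullback πX S)
      rw [hpk, hp]
      exact IsPullback.of_hasPullback πP S
    have h2 : IsPullback (qk ≫ gY) pk πY (pullback.snd πX S ≫ S) := by
      rw [hqg, ← pullback.condition (f := πX) (g := S)]
      exact h1.paste_horiz sq.flip
    exact (IsPullback.of_right h2 (hqk.trans hpk.symm) (IsPullback.of_hasPullback πY S)).flip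
  have wP : gP ≫ πP = pullback.snd πP S ≫ S := pullback.condition
  let W' := prodCover pk qk (pre gX U) (pre gY V)
  have hWeq : ∀ i, W' i = gP ⁻¹ᵁ W i := fun i => by
    change pk ⁻¹ᵁ (gX ⁻¹ᵁ U i.1) ⊓ qk ⁻¹ᵁ (gY ⁻¹ᵁ V i.2) = gP ⁻¹ᵁ (p ⁻¹ᵁ U i.1 ⊓ q ⁻¹ᵁ V i.2)
    rw [Scheme.Hom.preimage_inf, ← Scheme.Hom.comp_preimage, ← Scheme.Hom.comp_preimage,
      ← Scheme.Hom.comp_preimage, ← Scheme.Hom.comp_preimage, hpg, hqg]
  let τP := (Scheme.Modules.pullbackPushforwardAdjunction gP).homEquiv L (Coh.structureModule (pullback πP S)) j.hom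
  let E := fun n => extCo A k gP W W' τP n wP fun i => (hWeq i).le
  have hE : ∀ n, Function.Bijective (E n) := fun n =>
    extCo_bijective A k gP W W' τP wP _ (IsPullback.of_hasPullback πP S) hW (TMul.isQCoh_of_isInvertible hL) j rfl hWeq n
  have hEz : dL k W' (Coh.structureModule (pullback πP S)) 1 (E 1 z) = 0 := by
    rw [extCo_d]
    exact (congrArg (extCo A k gP W W' τP 2 wP fun i => (hWeq i).le) hz).trans (map_zero _)
  let ak : pullback πY S ⟶ pullback πP S :=
    pullback.map πY S πP S a (𝟙 _) (𝟙 _) (by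
      rw [Category.comp_id, show πP = q ≫ πY from hq.symm, ← Category.assoc, ha, Category.id_comp]) (by simp)
  let bk : pullback πX S ⟶ pullback πP S :=
    pullback.map πX S πP S b (𝟙 _) (𝟙 _) (by
      rw [Category.comp_id, show πP = p ≫ πX from hp.symm, ← Category.assoc, hb, Category.id_comp]) (by simp)
  let xk : Spec (CommRingCat.of k) ⟶ pullback πX S :=
    pullback.lift (S ≫ x₀) (𝟙 _) (by rw [Category.assoc, hx₀]; simp)
  let yk : Spec (CommRingCat.of k) ⟶ pullback πY S :=
    pullback.lift (S ≫ y₀) (𝟙 _) (by rw [Category.assoc, hy₀]; simp)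
  have hak : ak ≫ qk = 𝟙 _ := by
    apply pullback.hom_ext <;> simp [ak, qk, ha]
  have hbk : bk ≫ pk = 𝟙 _ := by
    apply pullback.hom_ext <;> simp [bk, pk, hb]
  have hak' : ak ≫ pk = pullback.snd πY S ≫ xk := by
    apply pullback.hom_ext
    · simp only [ak, pk, xk, Category.assoc, pullback.lift_fst, pullback.lift_fst_assoc, ha']
      rw [pullback.condition_assoc]
    · simp [ak, pk, xk]
  have hbk' : bk ≫ qk = pullback.snd πX S ≫ yk := by
    apply pullback.hom_ext
    · simp only [bk, qk, yk, Category.assoc, pullback.lift_fst, pullback.lift_fst_assoc, hb']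
      rw [pullback.condition_assoc]
    · simp [bk, qk, yk]
  have wak : ak ≫ pullback.snd πP S = pullback.snd πY S ≫ Spec.map (CommRingCat.ofHom (RingHom.id k)) :=
    over_id (k := k) (p := ak) (show ak ≫ pullback.snd πP S = pullback.snd πY S by simp [ak])
  have wbk : bk ≫ pullback.snd πP S = pullback.snd πX S ≫ Spec.map (CommRingCat.ofHom (RingHom.id k)) :=
    over_id (k := k) (p := bk) (show bk ≫ pullback.snd πP S = pullback.snd πX S by simp [bk])
  have hra := slice_mem_range a wa gP wP gY pullback.condition ak wak (by simp [ak, gY, gP]) hY W W'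
    (fun i => (hWeq i).le) hL (triv_of_iso hL j) (triv_of_iso hL ja) z hza
  have hrb := slice_mem_range b wb gP wP gX pullback.condition bk wbk (by simp [bk, gX, gP]) hX W W'
    (fun i => (hWeq i).le) hL (triv_of_iso hL j) (triv_of_iso hL jb) z hzb
  obtain ⟨c, hc⟩ := mem_range_of_slices k pk qk (pre gX U) (pre gY V) sk hpk hqk
    (isAffineOpen_pre A k gX (IsPullback.of_hasPullback πX S) U hU)
    (isAffineOpen_pre A k gY (IsPullback.of_hasPullback πY S) V hV)
    (iSup_pre gX U hUc) (iSup_pre gY V hVc) hX hY xk (pullback.lift_snd _ _ _) ak hak hak' wak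
    yk (pullback.lift_snd _ _ _) bk hbk hbk' wbk (E 1 z) hEz hra hrb
  obtain ⟨w, hw⟩ := (hE 0).2 c
  refine ⟨w, (hE 1).1 ?_⟩
  rw [← hc, ← hw]
  exact (extCo_d A k gP W W' τP wP _ 0 w).symm

end Groth.Agent.W7Cube
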