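import Groth.Agent.W7Cech.BCComplex

/-!
Maps of Čech cochains along a morphism of schemes and a map of modules.
-/

set_option autoImplicit false
set_option backward.isDefEq.respectTransparency false
set_option backward.isDefEq.respectTransparency.types false
set_option linter.style.haveILetI false

universe u

open CategoryTheory CategoryTheory.Limits AlgebraicGeometry TopologicalSpace Opposite
open Groth.Agent.SiteCoh Groth.Agent.ProjCech Groth.Agent.W7Cech
open Groth.Agent.QC (res resO res_res res_self res_smul app_res)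

noncomputable section

namespace Groth.Agent.W7Cube

variable {A B : Type u} [CommRing A] [CommRing B] {φ : A →+* B} {X X' : Scheme.{u}}
  [X.Over (Spec (CommRingCat.of A))] [X'.Over (Spec (CommRingCat.of B))] (g : X' ⟶ X)
  (w : g ≫ (X ↘ Spec (CommRingCat.of A)) = (X' ↘ Spec (CommRingCat.of B)) ≫ Spec.map (CommRingCat.ofHom φ))
  {ι : Type u} (U : ι → X.Opens) {F : X.Modules} {G : X'.Modules}

include w in
lemma secRing_comm' (V : X.Opens) (a : A) :
    (g.app V).hom (secRing A V a) = secRing B (g ⁻¹ᵁ V) (φ a) := by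
  have h := (congrArg (fun k => k.hom a)
    ((Scheme.ΓSpecIso_inv_naturality (CommRingCat.ofHom φ)).symm))
  change (g.app V).hom (resO X le_top ((X ↘ Spec (CommRingCat.of A)).appTop.hom
      ((Scheme.ΓSpecIso (CommRingCat.of A)).inv.hom a))) =
    resO X' le_top ((X' ↘ Spec (CommRingCat.of B)).appTop.hom
      ((Scheme.ΓSpecIso (CommRingCat.of B)).inv.hom (φ a)))
  have h2 : (X' ↘ Spec (CommRingCat.of B)).appTop.hom ((Spec.map (CommRingCat.ofHom φ)).appTop.hom
      ((Scheme.ΓSpecIso (CommRingCat.of A)).inv.hom a)) =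
    g.appTop.hom ((X ↘ Spec (CommRingCat.of A)).appTop.hom ((Scheme.ΓSpecIso (CommRingCat.of A)).inv.hom a)) := by
    exact congr(($(congrArg Scheme.Hom.appTop w.symm)).hom ((Scheme.ΓSpecIso (CommRingCat.of A)).inv.hom a))
  rw [show (Scheme.ΓSpecIso (CommRingCat.of B)).inv.hom (φ a) =
    (Spec.map (CommRingCat.ofHom φ)).appTop.hom ((Scheme.ΓSpecIso (CommRingCat.of A)).inv.hom a) from h.symm,
    h2]
  exact congr($(g.naturality (homOfLE (le_top : V ≤ ⊤)).op).hom _)

/-- Pulling back one section. -/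
def coSec (τ : F ⟶ (Scheme.Modules.pushforward g).obj G) {n : ℕ} (a : Fin (n + 1) → ι) :
    Γ(F, tupleProd U a) →+ Γ(G, tupleProd (pre g U) a) :=
  (res G (tupleProd_pre g U a).le).comp (τ.app (tupleProd U a)).hom

lemma coSec_apply (τ : F ⟶ (Scheme.Modules.pushforward g).obj G) {n : ℕ} (a : Fin (n + 1) → ι)
    (s : Γ(F, tupleProd U a)) :
    coSec g U τ a s = res G (tupleProd_pre g U a).le (show Γ(G, g ⁻¹ᵁ tupleProd U a) from τ.app _ s) := rfl

/-- Pulling back cochains. -/
def coX (τ : F ⟶ (Scheme.Modules.pushforward g).obj G)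
    (w' : g ≫ (X ↘ Spec (CommRingCat.of A)) = (X' ↘ Spec (CommRingCat.of B)) ≫ Spec.map (CommRingCat.ofHom φ))
    (n : ℕ) : (CoX A U F n : Type u) →ₛₗ[φ] (CoX B (pre g U) G n : Type u) where
  toFun x a := (coSec g U τ a (show Γ(F, tupleProd U a) from x a) :)
  map_add' x y := funext fun a => map_add (coSec g U τ a) _ _
  map_smul' r x := funext fun a => by
    change coSec g U τ a (secRing A (tupleProd U a) r • (show Γ(F, tupleProd U a) from x a)) =
      secRing B (tupleProd (pre g U) a) (φ r) • coSec g U τ a (show Γ(F, tupleProd U a) from x a)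
    have h1 := Scheme.Modules.Hom.app_smul τ (U := tupleProd U a) (secRing A (tupleProd U a) r)
      (show Γ(F, tupleProd U a) from x a)
    refine (congrArg (res G (tupleProd_pre g U a).le) h1).trans ?_
    refine (res_smul G (tupleProd_pre g U a).le ((g.app (tupleProd U a)).hom (secRing A (tupleProd U a) r))
      (show Γ(G, g ⁻¹ᵁ tupleProd U a) from τ.app (tupleProd U a) (show Γ(F, tupleProd U a) from x a))).trans ?_
    rw [secRing_comm' g w', resO_secRing]
    rfl

lemma coX_apply (τ : F ⟶ (Scheme.Modules.pushforward g).obj G) (n : ℕ) (x : (CoX A U F n : Type u))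
    (a : Fin (n + 1) → ι) :
    coX g U τ w n x a = res G (tupleProd_pre g U a).le
      (show Γ(G, g ⁻¹ᵁ tupleProd U a) from τ.app _ (show Γ(F, tupleProd U a) from x a)) := rfl

include w in
/-- Pulling back cochains commutes with the differential. -/
lemma coX_d (τ : F ⟶ (Scheme.Modules.pushforward g).obj G) (n : ℕ) (x : (CoX A U F n : Type u)) :
    dL B (pre g U) G n (coX g U τ w n x) = coX g U τ w (n + 1) (dL A U F n x) := by
  funext a
  change ∑ k : Fin (n + 2), (-1 : ℤ) ^ (k : ℕ) • res G (leOfHom (tupleDrop (pre g U) a k))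
      (coSec g U τ (a ∘ k.succAbove) (show Γ(F, tupleProd U (a ∘ k.succAbove)) from x (a ∘ k.succAbove))) =
    coSec g U τ a
      (∑ k : Fin (n + 2), (-1 : ℤ) ^ (k : ℕ) • res F (leOfHom (tupleDrop U a k))
        (show Γ(F, tupleProd U (a ∘ k.succAbove)) from x (a ∘ k.succAbove)))
  rw [map_sum]
  refine Finset.sum_congr rfl fun k _ => ?_
  rw [map_zsmul, coSec_apply, coSec_apply]
  refine congrArg _ ?_
  have key : ∀ {V W : X.Opens} (l : V ≤ W) {P Q : X'.Opens} (h1 : P ≤ g ⁻¹ᵁ V) (h2 : P ≤ Q) (h3 : Q ≤ g ⁻¹ᵁ W)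
      (s : Γ(F, W)), res G h2 (res G h3 (τ.app W s)) = res G h1 (τ.app V (res F l s)) := fun {V W} l {P Q} h1 h2 h3 s => by
    rw [← app_res τ l s]
    change res G h2 (res G h3 (show Γ(G, g ⁻¹ᵁ W) from τ.app W s)) =
      res G h1 (res G (g.preimage_mono l) (show Γ(G, g ⁻¹ᵁ W) from τ.app W s))
    rw [res_res, res_res]
  exact key _ _ _ _ _

/-- Composing the module map. -/
lemma coX_comp_map (τ : F ⟶ (Scheme.Modules.pushforward g).obj G) {G' : X'.Modules} (j : G ⟶ G') (n : ℕ)
    (x : (CoX A U F n : Type u)) :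
    coX g U (τ ≫ (Scheme.Modules.pushforward g).map j) w n x =
      (mapX B (pre g U) j n).hom (coX g U τ w n x) := funext fun a => by
  have key : ∀ {V : X.Opens} {P : X'.Opens} (l : P ≤ g ⁻¹ᵁ V) (t : Γ(G, g ⁻¹ᵁ V)),
      res G' l (j.app (g ⁻¹ᵁ V) t) = j.app P (res G l t) := fun l t => app_res j l t
  exact key _ _

/-- Composing the morphism of schemes. -/
lemma coX_comp {C : Type u} [CommRing C] {ψ : B →+* C} {χ : A →+* C} {X'' : Scheme.{u}}
    [X''.Over (Spec (CommRingCat.of C))] (h : X'' ⟶ X')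
    (wh : h ≫ (X' ↘ Spec (CommRingCat.of B)) = (X'' ↘ Spec (CommRingCat.of C)) ≫ Spec.map (CommRingCat.ofHom ψ))
    (wc : (h ≫ g) ≫ (X ↘ Spec (CommRingCat.of A)) = (X'' ↘ Spec (CommRingCat.of C)) ≫ Spec.map (CommRingCat.ofHom χ))
    {H : X''.Modules} (τ : F ⟶ (Scheme.Modules.pushforward g).obj G)
    (σ : G ⟶ (Scheme.Modules.pushforward h).obj H) (n : ℕ) (x : (CoX A U F n : Type u)) :
    coX (h ≫ g) U (τ ≫ (Scheme.Modules.pushforward g).map σ) wc n x =
      coX h (pre g U) σ wh n (coX g U τ w n x) := funext fun a => by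
  have key : ∀ {V : X.Opens} {P : X'.Opens} {Q : X''.Opens} (l : P ≤ g ⁻¹ᵁ V) (m : Q ≤ (h ≫ g) ⁻¹ᵁ V)
      (m' : Q ≤ h ⁻¹ᵁ P) (t : Γ(G, g ⁻¹ᵁ V)),
      res H m (show Γ(H, (h ≫ g) ⁻¹ᵁ V) from σ.app (g ⁻¹ᵁ V) t) = res H m' (σ.app P (res G l t)) :=
    fun {V P Q} l m m' t => by
      rw [← app_res σ l t]
      change res H m (show Γ(H, h ⁻¹ᵁ (g ⁻¹ᵁ V)) from σ.app (g ⁻¹ᵁ V) t) =
        res H m' (res H (h.preimage_mono l) (show Γ(H, h ⁻¹ᵁ (g ⁻¹ᵁ V)) from σ.app (g ⁻¹ᵁ V) t))
      rw [res_res]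
      rfl
  exact key _ _ _ _

/-- The unit gives the comparison of base change. -/
lemma coX_unit [Algebra A B] (sq : IsPullback g (X' ↘ Spec (CommRingCat.of B)) (X ↘ Spec (CommRingCat.of A))
    (Spec.map (CommRingCat.ofHom (algebraMap A B)))) (n : ℕ) (x : (CoX A U F n : Type u)) :
    coX g U ((Scheme.Modules.pullbackPushforwardAdjunction g).unit.app F) sq.w n x =
      (show (CoX B (pre g U) ((Scheme.Modules.pullback g).obj F) n : Type u) from
        psiX A B g U F n sq x) := rfl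

/-- Two trivialisations differ by an automorphism. -/
lemma exists_iso_of_adjoint {Z : X.Modules} {G : X'.Modules} (τ τ' : Z ⟶ (Scheme.Modules.pushforward g).obj G)
    (h : IsIso (((Scheme.Modules.pullbackPushforwardAdjunction g).homEquiv Z G).symm τ))
    (h' : IsIso (((Scheme.Modules.pullbackPushforwardAdjunction g).homEquiv Z G).symm τ')) :
    ∃ e : G ≅ G, τ' = τ ≫ (Scheme.Modules.pushforward g).map e.hom := by
  let E := (Scheme.Modules.pullbackPushforwardAdjunction g).homEquiv Z G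
  haveI := h
  haveI := h'
  refine ⟨(asIso (E.symm τ)).symm ≪≫ asIso (E.symm τ'), E.symm.injective ?_⟩
  rw [Adjunction.homEquiv_naturality_right_symm]
  simp [E]

end Groth.Agent.W7Cube
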