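import Groth.Agent.W7Cube.Triv

/-!
Cochains tensored with an algebra, mapped to cochains after base change.
-/

set_option autoImplicit false
set_option backward.isDefEq.respectTransparency false
set_option backward.isDefEq.respectTransparency.types false
set_option linter.style.haveILetI false
set_option maxHeartbeats 1000000

universe u

open CategoryTheory CategoryTheory.Limits AlgebraicGeometry TopologicalSpace Opposite
open Groth.Agent.SiteCoh Groth.Agent.ProjCech Groth.Agent.W7Cech
open Groth.Agent.QC (res resO res_res res_self res_smul app_res resO_resO)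
open scoped TensorProduct

noncomputable section

namespace Groth.Agent.W7Cube

variable (A B : Type u) [CommRing A] [CommRing B] [Algebra A B] {X X' : Scheme.{u}}
  [X.Over (Spec (CommRingCat.of A))] [X'.Over (Spec (CommRingCat.of B))] (g : X' ⟶ X)
  {ι : Type u} (U : ι → X.Opens) (U' : ι → X'.Opens) {F : X.Modules} {G : X'.Modules}
  (τ : F ⟶ (Scheme.Modules.pushforward g).obj G)
  (w : g ≫ (X ↘ Spec (CommRingCat.of A)) =
    (X' ↘ Spec (CommRingCat.of B)) ≫ Spec.map (CommRingCat.ofHom (algebraMap A B)))
  (hle : ∀ i, U' i ≤ g ⁻¹ᵁ U i)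

/-- `s ⊗ r ↦ r • g^*s`. -/
def extCo (n : ℕ) (w' : g ≫ (X ↘ Spec (CommRingCat.of A)) =
      (X' ↘ Spec (CommRingCat.of B)) ≫ Spec.map (CommRingCat.ofHom (algebraMap A B)))
    (hle' : ∀ i, U' i ≤ g ⁻¹ᵁ U i) :
    (CoX A U F n : Type u) ⊗[A] B →+ (CoX B U' G n : Type u) :=
  TensorProduct.liftAddHom
    (AddMonoidHom.mk' (fun s => AddMonoidHom.mk' (fun r : B => r • co g U U' τ w' hle' n s)
        fun r r' => add_smul r r' _)
      fun s s' => AddMonoidHom.ext fun r => by
        change r • co g U U' τ w' hle' n (s + s') = r • co g U U' τ w' hle' n s + r • co g U U' τ w' hle' n s'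
        rw [map_add, smul_add])
    fun a s r => by
      change r • co g U U' τ w' hle' n (a • s) = (a • r) • co g U U' τ w' hle' n s
      rw [LinearMap.map_smulₛₗ, smul_smul, Algebra.smul_def, mul_comm]

lemma extCo_tmul (n : ℕ) (s : (CoX A U F n : Type u)) (r : B) :
    extCo A B g U U' τ n w hle (s ⊗ₜ r) = r • co g U U' τ w hle n s := rfl

lemma extCo_d (n : ℕ) (z : (CoX A U F n : Type u) ⊗[A] B) :
    dL B U' G n (extCo A B g U U' τ n w hle z) =
      extCo A B g U U' τ (n + 1) w hle ((dL A U F n).rTensor B z) := by
  induction z using TensorProduct.induction_on with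
  | zero => simp
  | add z z' hz hz' => simp only [map_add, hz, hz']
  | tmul s r => rw [LinearMap.rTensor_tmul, extCo_tmul, extCo_tmul, map_smul, co_d]

variable [Finite ι]

/-- For the base change of schemes and of modules the map is bijective. -/
theorem extCo_bijective (sq : IsPullback g (X' ↘ Spec (CommRingCat.of B)) (X ↘ Spec (CommRingCat.of A))
      (Spec.map (CommRingCat.ofHom (algebraMap A B))))
    (hU : ∀ (n : ℕ) (a : Fin (n + 1) → ι), IsAffineOpen (tupleProd U a)) (hF : Coh.IsQCoh F)
    (j : (Scheme.Modules.pullback g).obj F ≅ G)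
    (hτ : τ = (Scheme.Modules.pullbackPushforwardAdjunction g).homEquiv F G j.hom)
    (hU' : ∀ i, U' i = g ⁻¹ᵁ U i) (n : ℕ) :
    Function.Bijective (extCo A B g U U' τ n w hle) := by
  obtain rfl : U' = pre g U := funext hU'
  have hτ' : τ = (Scheme.Modules.pullbackPushforwardAdjunction g).unit.app F ≫
      (Scheme.Modules.pushforward g).map j.hom := hτ.trans (Adjunction.homEquiv_unit ..)
  let C' : ModuleCat.{u} B := CoX B (pre g U) ((Scheme.Modules.pullback g).obj F) n
  letI : Module A C' := Module.compHom C' (algebraMap A B)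
  haveI : IsScalarTower A B C' := IsScalarTower.of_algebraMap_smul fun _ _ => rfl
  let C : ModuleCat.{u} A := CoX A U F n
  let ψ : C →ₗ[A] C' := psiX A B g U F n sq
  have hψ : IsBaseChange B ψ := isBaseChange_psiX A B g sq U F hU hF n
  let J := (mapX B (pre g U) j.hom n).hom
  have hJ : Function.Bijective J := by
    let J' := (mapX B (pre g U) j.inv n).hom
    have h1 : ∀ y, J' (J y) = y := fun y => by
      change (mapX B (pre g U) j.hom n ≫ mapX B (pre g U) j.inv n).hom y = y
      rw [show mapX B (pre g U) j.hom n ≫ mapX B (pre g U) j.inv n = 𝟙 _ from by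
        rw [← CC_map_f, ← CC_map_f, ← HomologicalComplex.comp_f, ← Functor.map_comp, Iso.hom_inv_id,
          CategoryTheory.Functor.map_id]
        rfl]
      rfl
    have h2 : ∀ y, J (J' y) = y := fun y => by
      change (mapX B (pre g U) j.inv n ≫ mapX B (pre g U) j.hom n).hom y = y
      rw [show mapX B (pre g U) j.inv n ≫ mapX B (pre g U) j.hom n = 𝟙 _ from by
        rw [← CC_map_f, ← CC_map_f, ← HomologicalComplex.comp_f, ← Functor.map_comp, Iso.inv_hom_id,
          CategoryTheory.Functor.map_id]
        rfl]
      rfl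
    exact ⟨Function.LeftInverse.injective h1, Function.RightInverse.surjective h2⟩
  have heq : ∀ z : (C : Type u) ⊗[A] B, extCo A B g U (pre g U) τ n w hle z =
      J (hψ.equiv (TensorProduct.comm A (C : Type u) B z)) := by
    intro z
    induction z using TensorProduct.induction_on with
    | zero => simp
    | add z z' hz hz' => simp only [map_add, hz, hz']
    | tmul s r =>
      refine (extCo_tmul A B g U (pre g U) τ w hle n s r).trans ?_
      rw [TensorProduct.comm_tmul, IsBaseChange.equiv_tmul]
      refine Eq.trans ?_ (map_smul J r (ψ s)).symm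
      refine congrArg (r • ·) (funext fun a => ?_)
      rw [co_apply]
      subst hτ'
      exact (app_res j.hom (tupleProd_pre g U a).le
        (show Γ((Scheme.Modules.pullback g).obj F, g ⁻¹ᵁ tupleProd U a) from
          OmegaSh.pullSect g F (tupleProd U a) (show Γ(F, tupleProd U a) from s a)))
  rw [show ⇑(extCo A B g U (pre g U) τ n w hle) = fun z => J (hψ.equiv (TensorProduct.comm A (C : Type u) B z))
    from funext heq]
  exact hJ.comp (hψ.equiv.bijective.comp (TensorProduct.comm A (C : Type u) B).bijective)

end Groth.Agent.W7Cube
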