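import Groth.Agent.W7Cube.Reindex
import Groth.Agent.Rigid.Sections

/-!
Čech cochains of functions on a product cover are tensor products.
-/

set_option autoImplicit false
set_option backward.isDefEq.respectTransparency false
set_option backward.isDefEq.respectTransparency.types false
set_option linter.style.haveILetI false
set_option maxHeartbeats 1000000

universe u

open CategoryTheory CategoryTheory.Limits AlgebraicGeometry TopologicalSpace Opposite
open Groth.Agent.SiteCoh Groth.Agent.ProjCech Groth.Agent.W7Cech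
open Groth.Agent.QC (res resO res_res res_self res_smul app_res resO_resO)
open scoped TensorProduct

noncomputable section

namespace Groth.Agent.W7Cube

/-- Global functions as a map of modules. -/
def toPush {X X' : Scheme.{u}} (g : X' ⟶ X) :
    Coh.structureModule X ⟶ (Scheme.Modules.pushforward g).obj (Coh.structureModule X') :=
  SheafOfModules.unitToPushforwardObjUnit g.toRingCatSheafHom

lemma toPush_app {X X' : Scheme.{u}} (g : X' ⟶ X) (V : X.Opens) (s : Γ(X, V)) :
    (toPush g).app V s = (g.app V).hom s := rfl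

variable (k : Type u) [CommRing k] {X Y P : Scheme.{u}} [X.Over (Spec (CommRingCat.of k))]
  [Y.Over (Spec (CommRingCat.of k))] [P.Over (Spec (CommRingCat.of k))] (p : P ⟶ X) (q : P ⟶ Y)
  {ι ι' : Type u} (U : ι → X.Opens) (V : ι' → Y.Opens)

/-- The product cover. -/
abbrev prodCover : ι × ι' → P.Opens := fun a => p ⁻¹ᵁ U a.1 ⊓ q ⁻¹ᵁ V a.2

lemma tupleProd_prodCover {n : ℕ} (a : Fin (n + 1) → ι × ι') :
    tupleProd (prodCover p q U V) a = p ⁻¹ᵁ tupleProd U (Prod.fst ∘ a) ⊓ q ⁻¹ᵁ tupleProd V (Prod.snd ∘ a) := by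
  refine le_antisymm (le_inf ?_ ?_) (le_tupleProd _ a fun r => inf_le_inf (p.preimage_mono (tupleProd_le U _ r))
    (q.preimage_mono (tupleProd_le V _ r)))
  · rw [← tupleProd_pre p U]
    exact le_tupleProd _ _ fun r => (tupleProd_le _ a r).trans inf_le_left
  · rw [← tupleProd_pre q V]
    exact le_tupleProd _ _ fun r => (tupleProd_le _ a r).trans inf_le_right

lemma iSup_prodCover (hU : iSup U = ⊤) (hV : iSup V = ⊤) : iSup (prodCover p q U V) = ⊤ := by
  refine eq_top_iff.2 fun x _ => ?_
  obtain ⟨i, hi⟩ := Opens.mem_iSup.1 (show p x ∈ iSup U from hU ▸ trivial)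
  obtain ⟨j, hj⟩ := Opens.mem_iSup.1 (show q x ∈ iSup V from hV ▸ trivial)
  exact Opens.mem_iSup.2 ⟨(i, j), hi, hj⟩

lemma isAffineOpen_prodCover (πX : X ⟶ Spec (CommRingCat.of k)) (πY : Y ⟶ Spec (CommRingCat.of k))
    (sq : IsPullback p q πX πY) (hU : ∀ (n : ℕ) (a : Fin (n + 1) → ι), IsAffineOpen (tupleProd U a))
    (hV : ∀ (n : ℕ) (a : Fin (n + 1) → ι'), IsAffineOpen (tupleProd V a))
    (n : ℕ) (a : Fin (n + 1) → ι × ι') : IsAffineOpen (tupleProd (prodCover p q U V) a) := by
  rw [tupleProd_prodCover]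
  haveI : IsAffine _ := hU n (Prod.fst ∘ a)
  haveI : IsAffine _ := hV n (Prod.snd ∘ a)
  have hpb := Scheme.Hom.isPullback_resLE sq (US := ⊤) (UX := tupleProd U (Prod.fst ∘ a))
    (UT := tupleProd V (Prod.snd ∘ a)) le_top le_top (UY := p ⁻¹ᵁ tupleProd U (Prod.fst ∘ a) ⊓ q ⁻¹ᵁ tupleProd V (Prod.snd ∘ a)) rfl
  haveI : IsAffine ((⊤ : (Spec (CommRingCat.of k)).Opens) : Scheme.{u}) := isAffineOpen_top _
  exact .of_isIso hpb.isoPullback.hom

section Field

variable (wp : p ≫ (X ↘ Spec (CommRingCat.of k)) =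
    (P ↘ Spec (CommRingCat.of k)) ≫ Spec.map (CommRingCat.ofHom (RingHom.id k)))
  (wq : q ≫ (Y ↘ Spec (CommRingCat.of k)) =
    (P ↘ Spec (CommRingCat.of k)) ≫ Spec.map (CommRingCat.ofHom (RingHom.id k)))

/-- A product of cochains. -/
def thetaPiece {n : ℕ} (a : Fin (n + 1) → ι × ι') (s : Γ(X, tupleProd U (Prod.fst ∘ a)))
    (t : Γ(Y, tupleProd V (Prod.snd ∘ a))) : Γ(P, tupleProd (prodCover p q U V) a) :=
  (p.appLE (tupleProd U (Prod.fst ∘ a)) (tupleProd (prodCover p q U V) a)
      ((tupleProd_prodCover p q U V a).le.trans inf_le_left)).hom s *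
    (q.appLE (tupleProd V (Prod.snd ∘ a)) (tupleProd (prodCover p q U V) a)
      ((tupleProd_prodCover p q U V a).le.trans inf_le_right)).hom t

include wp in
lemma appLE_secRing_p {W : X.Opens} {O : P.Opens} (h : O ≤ p ⁻¹ᵁ W) (r : k) :
    (p.appLE W O h).hom (secRing k W r) = secRing k O r := by
  rw [← resO_secRing k h r]
  exact congrArg (resO P h) (secRing_comm' p wp W r)

include wq in
lemma appLE_secRing_q {W : Y.Opens} {O : P.Opens} (h : O ≤ q ⁻¹ᵁ W) (r : k) :
    (q.appLE W O h).hom (secRing k W r) = secRing k O r := by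
  rw [← resO_secRing k h r]
  exact congrArg (resO P h) (secRing_comm' q wq W r)

/-- Products of cochains, bilinearly. -/
def theta (wp' : p ≫ (X ↘ Spec (CommRingCat.of k)) =
      (P ↘ Spec (CommRingCat.of k)) ≫ Spec.map (CommRingCat.ofHom (RingHom.id k)))
    (wq' : q ≫ (Y ↘ Spec (CommRingCat.of k)) =
      (P ↘ Spec (CommRingCat.of k)) ≫ Spec.map (CommRingCat.ofHom (RingHom.id k))) (n : ℕ) :
    (CoX k U (Coh.structureModule X) n : Type u) ⊗[k] (CoX k V (Coh.structureModule Y) n : Type u) →ₗ[k]
      (CoX k (prodCover p q U V) (Coh.structureModule P) n : Type u) :=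
  TensorProduct.lift (LinearMap.mk₂ k
    (fun x y a => (thetaPiece p q U V a (show Γ(X, tupleProd U (Prod.fst ∘ a)) from x (Prod.fst ∘ a))
      (show Γ(Y, tupleProd V (Prod.snd ∘ a)) from y (Prod.snd ∘ a)) :))
    (fun x x' y => funext fun a => by
      change thetaPiece p q U V a ((show Γ(X, tupleProd U (Prod.fst ∘ a)) from x (Prod.fst ∘ a)) +
        (show Γ(X, tupleProd U (Prod.fst ∘ a)) from x' (Prod.fst ∘ a))) _ =
          thetaPiece p q U V a _ _ + thetaPiece p q U V a _ _
      rw [thetaPiece, map_add, add_mul]; rfl)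
    (fun r x y => funext fun a => by
      change thetaPiece p q U V a (secRing k _ r * (show Γ(X, tupleProd U (Prod.fst ∘ a)) from x (Prod.fst ∘ a))) _ =
        secRing k _ r * thetaPiece p q U V a _ _
      rw [thetaPiece, map_mul, appLE_secRing_p k p wp', mul_assoc]; rfl)
    (fun x y y' => funext fun a => by
      change thetaPiece p q U V a _ ((show Γ(Y, tupleProd V (Prod.snd ∘ a)) from y (Prod.snd ∘ a)) +
        (show Γ(Y, tupleProd V (Prod.snd ∘ a)) from y' (Prod.snd ∘ a))) =
          thetaPiece p q U V a _ _ + thetaPiece p q U V a _ _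
      rw [thetaPiece, map_add, mul_add]; rfl)
    (fun r x y => funext fun a => by
      change thetaPiece p q U V a _ (secRing k _ r * (show Γ(Y, tupleProd V (Prod.snd ∘ a)) from y (Prod.snd ∘ a))) =
        secRing k _ r * thetaPiece p q U V a _ _
      rw [thetaPiece, map_mul, appLE_secRing_q k q wq', mul_left_comm]; rfl))

lemma theta_tmul (n : ℕ) (x : (CoX k U (Coh.structureModule X) n : Type u))
    (y : (CoX k V (Coh.structureModule Y) n : Type u)) (a : Fin (n + 1) → ι × ι') :
    theta k p q U V wp wq n (x ⊗ₜ y) a = thetaPiece p q U V a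
      (show Γ(X, tupleProd U (Prod.fst ∘ a)) from x (Prod.fst ∘ a))
      (show Γ(Y, tupleProd V (Prod.snd ∘ a)) from y (Prod.snd ∘ a)) :=
  congrFun (TensorProduct.lift.tmul _ _) a

/-- Products commute with reindexing. -/
lemma theta_rg {m n : ℕ} (σ : Fin (m + 1) → Fin (n + 1))
    (z : (CoX k U (Coh.structureModule X) m : Type u) ⊗[k] (CoX k V (Coh.structureModule Y) m : Type u)) :
    theta k p q U V wp wq n (TensorProduct.map (rg U k σ) (rg V k σ) z) =
      rg (prodCover p q U V) k σ (theta k p q U V wp wq m z) := by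
  induction z with
  | zero => simp
  | add z z' hz hz' => rw [map_add, map_add, map_add, hz, hz', map_add]
  | tmul x y =>
    funext a
    rw [TensorProduct.map_tmul, theta_tmul, rg_apply, rg_apply, rg_apply, theta_tmul]
    have key : ∀ {W W' : X.Opens} (l : W ≤ W') {T T' : Y.Opens} (l' : T ≤ T') {O O' : P.Opens} (m : O ≤ O')
        (h1 : O ≤ p ⁻¹ᵁ W) (h2 : O ≤ q ⁻¹ᵁ T) (h1' : O' ≤ p ⁻¹ᵁ W') (h2' : O' ≤ q ⁻¹ᵁ T') (s : Γ(X, W'))
        (t : Γ(Y, T')), (p.appLE W O h1).hom (resO X l s) * (q.appLE T O h2).hom (resO Y l' t) =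
          resO P m ((p.appLE W' O' h1').hom s * (q.appLE T' O' h2').hom t) := by
      intro W W' l T T' l' O O' m h1 h2 h1' h2' s t
      rw [map_mul]
      exact congrArg₂ (· * ·)
        ((congr(($(Scheme.Hom.map_appLE p h1 (homOfLE l).op)).hom s)).trans
          (congr(($(Scheme.Hom.appLE_map p h1' (homOfLE m).op)).hom s)).symm)
        ((congr(($(Scheme.Hom.map_appLE q h2 (homOfLE l').op)).hom t)).trans
          (congr(($(Scheme.Hom.appLE_map q h2' (homOfLE m).op)).hom t)).symm)
    exact key _ _ _ _ _ _ _ _ _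

variable [Finite ι] [Finite ι'] (sq : IsPullback p q (X ↘ Spec (CommRingCat.of k)) (Y ↘ Spec (CommRingCat.of k)))
  (hU : ∀ (n : ℕ) (a : Fin (n + 1) → ι), IsAffineOpen (tupleProd U a))
  (hV : ∀ (n : ℕ) (a : Fin (n + 1) → ι'), IsAffineOpen (tupleProd V a))

include sq hU hV in
/-- The cochains of the product cover are the tensor products. -/
theorem theta_bijective (n : ℕ) : Function.Bijective (theta k p q U V wp wq n) := by
  classical
  cases nonempty_fintype ι
  cases nonempty_fintype ι'
  letI : ∀ b : Fin (n + 1) → ι, Algebra k Γ(X, tupleProd U b) := fun b => (secRing k _).toAlgebra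
  letI : ∀ b : Fin (n + 1) → ι', Algebra k Γ(Y, tupleProd V b) := fun b => (secRing k _).toAlgebra
  have hpiece : ∀ a : Fin (n + 1) → ι × ι', ∃ e : Γ(X, tupleProd U (Prod.fst ∘ a)) ⊗[k]
      Γ(Y, tupleProd V (Prod.snd ∘ a)) ≃+* Γ(P, tupleProd (prodCover p q U V) a),
      ∀ s t, e (s ⊗ₜ t) = thetaPiece p q U V a s t := by
    intro a
    let S := Spec (CommRingCat.of k)
    let W₁ := tupleProd U (Prod.fst ∘ a)
    let W₂ := tupleProd V (Prod.snd ∘ a)
    have e1 : W₁ ≤ (X ↘ Spec (CommRingCat.of k)) ⁻¹ᵁ ⊤ := le_top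
    have e2 : W₂ ≤ (Y ↘ Spec (CommRingCat.of k)) ⁻¹ᵁ ⊤ := le_top
    have hP := (isIso_pushoutSection_iff sq e2 e1 (tupleProd_prodCover p q U V a)).1
      (isIso_pushoutSection_of_isAffineOpen sq e2 e1 (tupleProd_prodCover p q U V a) (isAffineOpen_top S)
        (hV n _) (hU n _))
    refine Rigid.exists_tensorEquiv (A := k) (K := Γ(X, W₁)) (B := Γ(Y, W₂)) ?_
    refine IsPushout.of_iso hP (Scheme.ΓSpecIso (CommRingCat.of k)) (Iso.refl _) (Iso.refl _) (Iso.refl _) ?_ ?_ ?_ ?_
    · rw [← cancel_epi (Scheme.ΓSpecIso (CommRingCat.of k)).inv]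
      ext r
      simp only [Iso.refl_hom, Category.comp_id, Iso.inv_hom_id_assoc]
      rfl
    · rw [← cancel_epi (Scheme.ΓSpecIso (CommRingCat.of k)).inv]
      ext r
      simp only [Iso.refl_hom, Category.comp_id, Iso.inv_hom_id_assoc]
      rfl
    · simp only [Iso.refl_hom, Category.comp_id, Category.id_comp]; rfl
    · simp only [Iso.refl_hom, Category.comp_id, Category.id_comp]; rfl
  choose e he using hpiece
  let pr : (Fin (n + 1) → ι) → (Fin (n + 1) → ι') → (Fin (n + 1) → ι × ι') := fun b c r => (b r, c r)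
  let T := (CoX k U (Coh.structureModule X) n : Type u) ⊗[k] (CoX k V (Coh.structureModule Y) n : Type u)
  let single : ∀ b c, Γ(X, tupleProd U b) ⊗[k] Γ(Y, tupleProd V c) →ₗ[k] T := fun b c =>
    TensorProduct.map (LinearMap.single k (fun b => ((secA k (tupleProd U b)).obj (Coh.structureModule X) : Type u)) b)
      (LinearMap.single k (fun c => ((secA k (tupleProd V c)).obj (Coh.structureModule Y) : Type u)) c)
  let Ψ : (CoX k (prodCover p q U V) (Coh.structureModule P) n : Type u) → T := fun z =>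
    ∑ b, ∑ c, single b c ((e (pr b c)).symm (show Γ(P, tupleProd (prodCover p q U V) (pr b c)) from z (pr b c)))
  have hleft : ∀ z : T, Ψ (theta k p q U V wp wq n z) = z := by
    intro z
    induction z using TensorProduct.induction_on with
    | zero =>
      simp only [map_zero, Ψ]
      exact Finset.sum_eq_zero fun b _ => Finset.sum_eq_zero fun c _ =>
        (congrArg (single b c) (map_zero (e (pr b c)).symm)).trans (map_zero _)
    | add z z' hz hz' =>
      conv_rhs => rw [← hz, ← hz']
      simp only [map_add, Ψ, ← Finset.sum_add_distrib]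
      exact Finset.sum_congr rfl fun b _ => Finset.sum_congr rfl fun c _ =>
        (congrArg (single b c) (map_add (e (pr b c)).symm _ _)).trans (map_add _ _ _)
    | tmul x y =>
      have h : ∀ b c, (e (pr b c)).symm (show Γ(P, tupleProd (prodCover p q U V) (pr b c)) from
          theta k p q U V wp wq n (x ⊗ₜ y) (pr b c)) =
          (show Γ(X, tupleProd U b) from x b) ⊗ₜ (show Γ(Y, tupleProd V c) from y c) := fun b c => by
        rw [RingEquiv.symm_apply_eq, he]
        exact theta_tmul k p q U V wp wq n x y (pr b c)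
      simp only [Ψ, h]
      change ∑ b, ∑ c, (Pi.single b (x b)) ⊗ₜ[k] (Pi.single c (y c)) = x ⊗ₜ y
      simp only [← TensorProduct.tmul_sum, ← TensorProduct.sum_tmul, Finset.univ_sum_single]
  have hright : ∀ z, theta k p q U V wp wq n (Ψ z) = z := by
    intro z
    funext a
    simp only [Ψ, map_sum, Finset.sum_apply]
    have key : ∀ b c (v : Γ(X, tupleProd U b) ⊗[k] Γ(Y, tupleProd V c)),
        (Prod.fst ∘ a ≠ b ∨ Prod.snd ∘ a ≠ c) → theta k p q U V wp wq n (single b c v) a = 0 := by
      intro b c v hne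
      induction v with
      | zero => simp; rfl
      | add v v' hv hv' => rw [map_add, map_add, Pi.add_apply, hv, hv', add_zero]
      | tmul s t =>
        refine (theta_tmul k p q U V wp wq n _ _ a).trans ?_
        rcases hne with h | h
        · refine (congrArg₂ (thetaPiece p q U V a) (Pi.single_eq_of_ne (M := fun b => ((secA k (tupleProd U b)).obj (Coh.structureModule X) : Type u)) h s) rfl).trans ?_
          exact (congrArg (· * _) (map_zero _)).trans (zero_mul _)
        · refine (congrArg₂ (thetaPiece p q U V a) rfl (Pi.single_eq_of_ne (M := fun c => ((secA k (tupleProd V c)).obj (Coh.structureModule Y) : Type u)) h t)).trans ?_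
          exact (congrArg (_ * ·) (map_zero _)).trans (mul_zero _)
    rw [Finset.sum_eq_single (Prod.fst ∘ a) (fun b _ hb => Finset.sum_eq_zero fun c _ => key b c _ (Or.inl (Ne.symm hb)))
      (fun h => absurd (Finset.mem_univ _) h),
      Finset.sum_eq_single (Prod.snd ∘ a) (fun c _ hc => key _ c _ (Or.inr (Ne.symm hc)))
      (fun h => absurd (Finset.mem_univ _) h)]
    have hev : ∀ v : Γ(X, tupleProd U (Prod.fst ∘ a)) ⊗[k] Γ(Y, tupleProd V (Prod.snd ∘ a)),
        theta k p q U V wp wq n (single (Prod.fst ∘ a) (Prod.snd ∘ a) v) a = e a v := by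
      intro v
      induction v with
      | zero => simp; rfl
      | add v v' hv hv' => rw [map_add, map_add, Pi.add_apply, hv, hv']; exact (map_add (e a) v v').symm
      | tmul s t =>
        refine (theta_tmul k p q U V wp wq n _ _ a).trans ?_
        rw [he]
        exact congrArg₂ (thetaPiece p q U V a)
          (Pi.single_eq_same (M := fun b => ((secA k (tupleProd U b)).obj (Coh.structureModule X) : Type u)) _ s)
          (Pi.single_eq_same (M := fun c => ((secA k (tupleProd V c)).obj (Coh.structureModule Y) : Type u)) _ t)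
    exact (hev _).trans ((e a).apply_symm_apply _)
  exact ⟨Function.LeftInverse.injective hleft, Function.RightInverse.surjective hright⟩

end Field

end Groth.Agent.W7Cube
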