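import Groth.Agent.W7Cube.Product
import Groth.Agent.W7Hull.InvNear
import Groth.Agent.W7Cech.UnitIso

/-!
Trivialisations along a morphism, and maps of cochains to finer covers.
-/

set_option autoImplicit false
set_option backward.isDefEq.respectTransparency false
set_option backward.isDefEq.respectTransparency.types false
set_option linter.style.haveILetI false

universe u

open CategoryTheory CategoryTheory.Limits AlgebraicGeometry TopologicalSpace Opposite
open Groth.Agent.SiteCoh Groth.Agent.ProjCech Groth.Agent.W7Cech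
open Groth.Agent.QC (res resO res_res res_self res_smul app_res resO_resO)
open TMul (IsGen)

noncomputable section

namespace Groth.Agent.W7Cube

section Co

variable {A B : Type u} [CommRing A] [CommRing B] {φ : A →+* B} {X X' : Scheme.{u}}
  [X.Over (Spec (CommRingCat.of A))] [X'.Over (Spec (CommRingCat.of B))]
  {ι : Type u} {F : X.Modules} {G : X'.Modules}

/-- Refinement of cochains. -/
def chg (W W' : ι → X'.Opens) (h : ∀ i, W' i ≤ W i) (n : ℕ) :
    (CoX B W G n : Type u) →ₗ[B] (CoX B W' G n : Type u) where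
  toFun x a := (res G (le_tupleProd W a fun r => (tupleProd_le W' a r).trans (h (a r)))
    (show Γ(G, tupleProd W a) from x a) :)
  map_add' x y := funext fun a => map_add (res G (le_tupleProd W a fun r => (tupleProd_le W' a r).trans (h (a r))))
    (show Γ(G, tupleProd W a) from x a) (show Γ(G, tupleProd W a) from y a)
  map_smul' r x := funext fun a => by
    refine (res_smul G (le_tupleProd W a fun r => (tupleProd_le W' a r).trans (h (a r))) (secRing B (tupleProd W a) r)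
      (show Γ(G, tupleProd W a) from x a)).trans ?_
    rw [resO_secRing]
    rfl

variable (g : X' ⟶ X)
  (w : g ≫ (X ↘ Spec (CommRingCat.of A)) = (X' ↘ Spec (CommRingCat.of B)) ≫ Spec.map (CommRingCat.ofHom φ))
  (U : ι → X.Opens) (U' : ι → X'.Opens) (hle : ∀ i, U' i ≤ g ⁻¹ᵁ U i)

/-- Pulling back cochains to a finer cover. -/
def co (τ : F ⟶ (Scheme.Modules.pushforward g).obj G)
    (w' : g ≫ (X ↘ Spec (CommRingCat.of A)) = (X' ↘ Spec (CommRingCat.of B)) ≫ Spec.map (CommRingCat.ofHom φ))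
    (hle' : ∀ i, U' i ≤ g ⁻¹ᵁ U i) (n : ℕ) :
    (CoX A U F n : Type u) →ₛₗ[φ] (CoX B U' G n : Type u) :=
  (chg (pre g U) U' hle' n).comp (coX g U τ w' n)

include hle in
lemma le_pre_tupleProd {n : ℕ} (a : Fin (n + 1) → ι) : tupleProd U' a ≤ g ⁻¹ᵁ tupleProd U a :=
  (le_tupleProd (pre g U) a fun r => (tupleProd_le U' a r).trans (hle (a r))).trans (tupleProd_pre g U a).le

lemma co_apply (τ : F ⟶ (Scheme.Modules.pushforward g).obj G) (n : ℕ) (x : (CoX A U F n : Type u))
    (a : Fin (n + 1) → ι) :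
    co g U U' τ w hle n x a = res G (le_pre_tupleProd g U U' hle a)
      (show Γ(G, g ⁻¹ᵁ tupleProd U a) from τ.app _ (show Γ(F, tupleProd U a) from x a)) :=
  res_res G _ _ _

lemma chg_rg (W W' : ι → X'.Opens) (h : ∀ i, W' i ≤ W i) {m n : ℕ} (σ : Fin (m + 1) → Fin (n + 1))
    (x : (CoX B W G m : Type u)) : chg W W' h n (rg W B σ x) = rg W' B σ (chg W W' h m x) := funext fun a => by
  have key : ∀ {P Q R S : X'.Opens} (h1 : P ≤ Q) (h2 : Q ≤ S) (h3 : P ≤ R) (h4 : R ≤ S) (t : Γ(G, S)),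
      res G h1 (res G h2 t) = res G h3 (res G h4 t) := fun h1 h2 h3 h4 t => by rw [res_res, res_res]
  exact key _ _ _ _ _

lemma chg_d (W W' : ι → X'.Opens) (h : ∀ i, W' i ≤ W i) (n : ℕ) (x : (CoX B W G n : Type u)) :
    dL B W' G n (chg W W' h n x) = chg W W' h (n + 1) (dL B W G n x) := by
  rw [dL_eq_sum, dL_eq_sum, map_sum]
  exact Finset.sum_congr rfl fun r _ => by rw [map_zsmul, chg_rg]

include w in
/-- Pulling back cochains to a finer cover commutes with the differential. -/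
lemma co_d (τ : F ⟶ (Scheme.Modules.pushforward g).obj G) (n : ℕ) (x : (CoX A U F n : Type u)) :
    dL B U' G n (co g U U' τ w hle n x) = co g U U' τ w hle (n + 1) (dL A U F n x) :=
  (chg_d (pre g U) U' hle n _).trans (congrArg (chg (pre g U) U' hle (n + 1)) (coX_d g w U τ n x))

/-- Equal morphisms of schemes. -/
lemma co_congr {g' : X' ⟶ X} (e : g = g') (τ : F ⟶ (Scheme.Modules.pushforward g).obj G)
    (τ' : F ⟶ (Scheme.Modules.pushforward g').obj G)
    (w' : g' ≫ (X ↘ Spec (CommRingCat.of A)) = (X' ↘ Spec (CommRingCat.of B)) ≫ Spec.map (CommRingCat.ofHom φ))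
    (hle' : ∀ i, U' i ≤ g' ⁻¹ᵁ U i)
    (hτ : ∀ (V : X.Opens) (O : X'.Opens) (h : O ≤ g ⁻¹ᵁ V) (h' : O ≤ g' ⁻¹ᵁ V) (s : Γ(F, V)),
      res G h (show Γ(G, g ⁻¹ᵁ V) from τ.app V s) = res G h' (show Γ(G, g' ⁻¹ᵁ V) from τ'.app V s))
    (n : ℕ) (x : (CoX A U F n : Type u)) : co g U U' τ w hle n x = co g' U U' τ' w' hle' n x := by
  funext a
  rw [co_apply, co_apply]
  exact hτ _ _ _ _ _

/-- Composition. -/
lemma co_co {C : Type u} [CommRing C] {ψ : B →+* C} {χ : A →+* C} {X'' : Scheme.{u}}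
    [X''.Over (Spec (CommRingCat.of C))] (h : X'' ⟶ X')
    (wh : h ≫ (X' ↘ Spec (CommRingCat.of B)) = (X'' ↘ Spec (CommRingCat.of C)) ≫ Spec.map (CommRingCat.ofHom ψ))
    (wc : (h ≫ g) ≫ (X ↘ Spec (CommRingCat.of A)) = (X'' ↘ Spec (CommRingCat.of C)) ≫ Spec.map (CommRingCat.ofHom χ))
    {H : X''.Modules} (τ : F ⟶ (Scheme.Modules.pushforward g).obj G)
    (σ : G ⟶ (Scheme.Modules.pushforward h).obj H) (U'' : ι → X''.Opens) (hle'' : ∀ i, U'' i ≤ h ⁻¹ᵁ U' i)
    (hc : ∀ i, U'' i ≤ (h ≫ g) ⁻¹ᵁ U i) (n : ℕ) (x : (CoX A U F n : Type u)) :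
    co (h ≫ g) U U'' (τ ≫ (Scheme.Modules.pushforward g).map σ) wc hc n x =
      co h U' U'' σ wh hle'' n (co g U U' τ w hle n x) := by
  funext a
  rw [co_apply, co_apply, co_apply]
  have key : ∀ {V : X.Opens} {P : X'.Opens} {Q : X''.Opens} (l : P ≤ g ⁻¹ᵁ V) (m : Q ≤ (h ≫ g) ⁻¹ᵁ V)
      (m' : Q ≤ h ⁻¹ᵁ P) (t : Γ(G, g ⁻¹ᵁ V)),
      res H m (show Γ(H, (h ≫ g) ⁻¹ᵁ V) from σ.app (g ⁻¹ᵁ V) t) = res H m' (σ.app P (res G l t)) :=
    fun {V P Q} l m m' t => by
      rw [← app_res σ l t]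
      change res H m (show Γ(H, h ⁻¹ᵁ (g ⁻¹ᵁ V)) from σ.app (g ⁻¹ᵁ V) t) =
        res H m' (res H (h.preimage_mono l) (show Γ(H, h ⁻¹ᵁ (g ⁻¹ᵁ V)) from σ.app (g ⁻¹ᵁ V) t))
      rw [res_res]
      rfl
  exact key _ _ _ _

end Co

section Trivialisation

variable {X X' : Scheme.{u}} {g : X' ⟶ X} {F : X.Modules}

/-- A map to functions upstairs sending generators to units. -/
def Triv (τ : F ⟶ (Scheme.Modules.pushforward g).obj (Coh.structureModule X')) : Prop :=
  ∀ (V : X.Opens) (e : Γ(F, V)), IsGen e → IsUnit (show Γ(X', g ⁻¹ᵁ V) from τ.app V e)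

/-- The trivialisation of an isomorphism of the pullback with the structure module. -/
lemma triv_of_iso (hF : PicF.IsInvertible F) (j : (Scheme.Modules.pullback g).obj F ≅ Coh.structureModule X') :
    Triv ((Scheme.Modules.pullbackPushforwardAdjunction g).homEquiv F (Coh.structureModule X') j.hom) := by
  intro V e he
  have hg := SymAlg.isGen_pullθ g j.symm (TMul.isInvertible_structureModule (X := X')) (TMul.isQCoh_of_isInvertible hF)
    (V := V) e he
  obtain ⟨c, hc⟩ := (hg (g ⁻¹ᵁ V) le_rfl).2 (1 : Γ(X', g ⁻¹ᵁ V))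
  refine IsUnit.of_mul_eq_one (b := c) ?_
  change c • res (Coh.structureModule X') le_rfl ((SymAlg.pullθ g j.symm).app V e) = _ at hc
  rw [res_self] at hc
  exact (mul_comm _ _).trans hc

/-- Following a trivialisation by pullback of functions. -/
lemma Triv.comp {X'' : Scheme.{u}} (h : X'' ⟶ X')
    {τ : F ⟶ (Scheme.Modules.pushforward g).obj (Coh.structureModule X')} (hτ : Triv τ) :
    Triv (g := h ≫ g) (τ ≫ (Scheme.Modules.pushforward g).map (toPush h)) := fun V e he =>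
  (hτ V e he).map (h.app (g ⁻¹ᵁ V)).hom

/-- Two trivialisations differ by a global unit. -/
lemma Triv.exists_unit (hF : PicF.IsInvertible F)
    {τ τ' : F ⟶ (Scheme.Modules.pushforward g).obj (Coh.structureModule X')} (hτ : Triv τ) (hτ' : Triv τ') :
    ∃ u : Γ(X', ⊤), IsUnit u ∧ ∀ (V : X.Opens) (s : Γ(F, V)),
      (show Γ(X', g ⁻¹ᵁ V) from τ'.app V s) = resO X' le_top u * (show Γ(X', g ⁻¹ᵁ V) from τ.app V s) := by
  choose A e hx he using fun x : X => TMul.exists_isGen hF x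
  let a : ∀ x, Γ(X', g ⁻¹ᵁ A x) := fun x => τ.app (A x) (e x)
  let a' : ∀ x, Γ(X', g ⁻¹ᵁ A x) := fun x => τ'.app (A x) (e x)
  have hu : ∀ x, IsUnit (a x) := fun x => hτ _ _ (he x)
  let r : ∀ x, Γ(X', g ⁻¹ᵁ A x) := fun x => a' x * ↑(hu x).unit⁻¹
  have hr : ∀ x, a' x = r x * a x := fun x => by
    rw [mul_assoc, IsUnit.val_inv_mul, mul_one]
  have hnat : ∀ (σ : F ⟶ (Scheme.Modules.pushforward g).obj (Coh.structureModule X')) {V W : X.Opens} (l : V ≤ W)
      (s : Γ(F, W)), resO X' (g.preimage_mono l) (show Γ(X', g ⁻¹ᵁ W) from σ.app W s) =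
        (show Γ(X', g ⁻¹ᵁ V) from σ.app V (res F l s)) := fun σ V W l s => app_res σ l s
  have hsmul : ∀ (σ : F ⟶ (Scheme.Modules.pushforward g).obj (Coh.structureModule X')) {V : X.Opens} (c : Γ(X, V))
      (s : Γ(F, V)), (show Γ(X', g ⁻¹ᵁ V) from σ.app V (c • s)) =
        (g.app V).hom c * (show Γ(X', g ⁻¹ᵁ V) from σ.app V s) := fun σ V c s =>
    Scheme.Modules.Hom.app_smul σ c s
  have hcompat : TopCat.Presheaf.IsCompatible X'.sheaf.1 (fun x => g ⁻¹ᵁ A x) r := by
    intro x y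
    let W := A x ⊓ A y
    obtain ⟨c, hc⟩ := ((he x).res (inf_le_left : W ≤ A x) W le_rfl).2 (res F (inf_le_right : W ≤ A y) (e y))
    change c • res F le_rfl (res F (inf_le_left : W ≤ A x) (e x)) = _ at hc
    rw [res_self] at hc
    have hrx : resO X' (g.preimage_mono (inf_le_left : W ≤ A x)) (r x) *
        resO X' (g.preimage_mono (inf_le_left : W ≤ A x)) (a x) =
          resO X' (g.preimage_mono (inf_le_left : W ≤ A x)) (a' x) := by rw [← map_mul, ← hr]
    have hry : resO X' (g.preimage_mono (inf_le_right : W ≤ A y)) (r y) *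
        resO X' (g.preimage_mono (inf_le_right : W ≤ A y)) (a y) =
          resO X' (g.preimage_mono (inf_le_right : W ≤ A y)) (a' y) := by rw [← map_mul, ← hr]
    change resO X' (g.preimage_mono (inf_le_left : W ≤ A x)) (r x) =
      resO X' (g.preimage_mono (inf_le_right : W ≤ A y)) (r y)
    refine ((hu y).map (resO X' (g.preimage_mono (inf_le_right : W ≤ A y)))).mul_left_injective ?_
    change _ * _ = _ * _
    rw [hry, hnat τ' inf_le_right, hnat τ inf_le_right, ← hc, hsmul, hsmul, ← hnat τ' inf_le_left,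
      ← hnat τ inf_le_left, ← hrx]
    ring
  have htop : (⊤ : X'.Opens) ≤ ⨆ x, g ⁻¹ᵁ A x := fun z _ => Opens.mem_iSup.2 ⟨g z, hx (g z)⟩
  obtain ⟨u, hu', -⟩ := X'.sheaf.existsUnique_gluing' (fun x => g ⁻¹ᵁ A x) ⊤ (fun x => homOfLE le_top) htop r hcompat
  replace hu' : ∀ x, resO X' le_top u = r x := hu'
  refine ⟨u, ?_, fun V s => ?_⟩
  · have h : ∀ z : X', IsUnit (X'.presheaf.germ ⊤ z trivial u) := fun z => by
      have hz : z ∈ g ⁻¹ᵁ A (g z) := hx (g z)
      have h1 : IsUnit (r (g z)) := (hτ' _ _ (he (g z))).mul (hu (g z)).unit⁻¹.isUnit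
      rw [← hu'] at h1
      have h2 := h1.map (X'.presheaf.germ (g ⁻¹ᵁ A (g z)) z hz).hom
      rwa [TopCat.Presheaf.germ_res_apply] at h2
    exact X'.toRingedSpace.isUnit_of_isUnit_germ ⊤ u fun z _ => h z
  · refine QC.section_eq_of_locally (M := Coh.structureModule X') fun z hz => ?_
    let W := V ⊓ A (g z)
    refine ⟨g ⁻¹ᵁ W, g.preimage_mono inf_le_left, ⟨hz, hx (g z)⟩, ?_⟩
    change resO X' _ (show Γ(X', g ⁻¹ᵁ V) from τ'.app V s) =
      resO X' _ (resO X' le_top u * (show Γ(X', g ⁻¹ᵁ V) from τ.app V s))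
    rw [map_mul, hnat τ' inf_le_left, hnat τ inf_le_left]
    obtain ⟨c, hc⟩ := ((he (g z)).res (inf_le_right : W ≤ A (g z)) W le_rfl).2 (res F (inf_le_left : W ≤ V) s)
    change c • res F le_rfl (res F (inf_le_right : W ≤ A (g z)) (e (g z))) = _ at hc
    rw [res_self] at hc
    rw [← hc, hsmul, hsmul, ← hnat τ' inf_le_right, ← hnat τ inf_le_right,
      show (show Γ(X', g ⁻¹ᵁ A (g z)) from τ'.app (A (g z)) (e (g z))) = r (g z) * a (g z) from hr (g z),
      map_mul, ← hu', resO_resO, resO_resO]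
    ring

end Trivialisation

end Groth.Agent.W7Cube
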